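import Mathlib
import Groth.Prelude.Def_ProCons
import Groth.Prelude.Def_Pi1

set_option autoImplicit false
universe u v w

open AlgebraicGeometry CategoryTheory CategoryTheory.Limits Topology TopologicalSpace
open scoped TensorProduct

namespace Groth.Agent.FDesc60

/-- A point in the closure of the image of a quasi-compact morphism specialises from the image. -/
lemma exists_specializes_of_mem_closure_range {X Y : Scheme.{u}} (g : X ⟶ Y) [QuasiCompact g]
    {y : Y} (hy : y ∈ closure (Set.range g)) : ∃ x : X, g x ⤳ y := by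
  obtain ⟨V, hV, hyV, -⟩ := exists_isAffineOpen_mem_and_subset (X := Y) (x := y) (U := ⊤) trivial
  have hcs : CompactSpace (g ⁻¹ᵁ V).toScheme :=
    isCompact_iff_compactSpace.mp (QuasiCompact.isCompact_preimage (f := g) V V.2 hV.isCompact)
  obtain ⟨R, k, hk⟩ := compactSpace_iff_exists.mp hcs
  let e := hV.isoSpec
  let h : Spec R ⟶ Spec Γ(Y, V) := k ≫ (g ∣_ V) ≫ e.hom
  obtain ⟨φ, hφ⟩ := Spec.map_surjective h
  let a : Spec Γ(Y, V) := e.hom ⟨y, hyV⟩
  have ha : a ∈ closure (Set.range h) := by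
    have h1 : (⟨y, hyV⟩ : V.toScheme) ∈ closure (V.ι ⁻¹' Set.range g) :=
      V.ι.isOpenEmbedding.isOpenMap.preimage_closure_subset_closure_preimage hy
    have h2 : V.ι ⁻¹' Set.range g ⊆ Set.range (k ≫ g ∣_ V) := by
      rintro ⟨z, hz⟩ ⟨x, hx⟩
      replace hx : g x = z := hx
      obtain ⟨r, hr⟩ := hk ⟨x, show g x ∈ V from hx ▸ hz⟩
      refine ⟨r, Subtype.ext ?_⟩
      simp only [Scheme.Hom.comp_apply, hr]
      refine Eq.trans ?_ hx
      simp [morphismRestrict_base]
    have h3 := mem_closure_image e.hom.continuous.continuousAt (closure_mono h2 h1)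
    refine closure_mono ?_ h3
    rw [← Set.range_comp]
    exact le_of_eq rfl
  rw [← hφ] at ha
  have ha' : a ∈ closure (Set.range (PrimeSpectrum.comap φ.hom)) := ha
  replace ha' : RingHom.ker φ.hom ≤ a.asIdeal :=
    (PrimeSpectrum.closure_range_comap φ.hom).le ha'
  have := a.2
  obtain ⟨p, hp, hpa⟩ := Ideal.exists_minimalPrimes_le (J := a.asIdeal) ha'
  obtain ⟨q, hq, -, hqp⟩ := Ideal.exists_comap_eq_of_mem_minimalPrimes (I := ⊥) φ.hom p hp
  have hs : h ⟨q, hq⟩ ⤳ a := by
    rw [← hφ]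
    exact (PrimeSpectrum.le_iff_specializes _ _).mp (show q.comap φ.hom ≤ a.asIdeal from hqp ▸ hpa)
  let pt : Spec R := ⟨q, hq⟩
  refine ⟨(g ⁻¹ᵁ V).ι (k pt), ?_⟩
  have hh := (show h pt ⤳ a from hs).map (e.inv ≫ V.ι).continuous
  have e1 : (e.inv ≫ V.ι) a = y := by
    change (e.hom ≫ e.inv ≫ V.ι) ⟨y, hyV⟩ = y
    rw [Iso.hom_inv_id_assoc]
    rfl
  have e2 : (e.inv ≫ V.ι) (h pt) = g ((g ⁻¹ᵁ V).ι (k pt)) := by
    change (h ≫ e.inv ≫ V.ι) pt = (k ≫ (g ⁻¹ᵁ V).ι ≫ g) pt
    simp only [h, Category.assoc, Iso.hom_inv_id_assoc, morphismRestrict_ι]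
  rwa [e1, e2] at hh

/-- A maximal point in the closure of a pro-constructible set lies in it. -/
lemma mem_of_mem_closure_of_isProConstructible {X : Scheme.{u}} {Z : Set X}
    (hZ : ProCons.IsProConstructible Z) {η : X} (hmax : ∀ z, z ⤳ η → z = η)
    (hη : η ∈ closure Z) : η ∈ Z := by
  obtain ⟨U, hU, hηU, S, hS, hSeq⟩ := hZ η
  obtain ⟨R, j, hj, ⟨a, ha⟩, hsub⟩ := Scheme.exists_affine_mem_range_and_range_subset (U := ⟨U, hU⟩) hηU
  have hjU : ∀ b, j b ∈ U := fun b ↦ hsub ⟨b, rfl⟩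
  let j' : Spec R → U := fun b ↦ ⟨j b, hjU b⟩
  have hj' : IsOpenEmbedding j' :=
    .of_comp _ hU.isOpenEmbedding_subtypeVal (show IsOpenEmbedding (Subtype.val ∘ j') from j.isOpenEmbedding)
  have : (⟨η, hηU⟩ : U) ∈ ⋂₀ S := by
    rw [Set.mem_sInter]
    intro T hT
    have hc : IsConstructible (j' ⁻¹' T) :=
      ((hS T hT).preimage_of_isOpenEmbedding hj').isConstructible
    obtain ⟨C, _, φ, hφ⟩ := PrimeSpectrum.exists_range_eq_of_isConstructible hc
    have hcl : a ∈ closure (j' ⁻¹' T) := by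
      have h1 : a ∈ closure (j ⁻¹' Z) :=
        j.isOpenEmbedding.isOpenMap.preimage_closure_subset_closure_preimage (show j a ∈ closure Z from ha ▸ hη)
      refine closure_mono (fun b hb ↦ ?_) h1
      have : (j' b) ∈ (Subtype.val ⁻¹' Z : Set U) := hb
      rw [hSeq] at this
      exact this T hT
    rw [← hφ] at hcl
    replace hcl : RingHom.ker φ ≤ a.asIdeal :=
      (PrimeSpectrum.closure_range_comap φ).le hcl
    have := a.2
    obtain ⟨p, hp, hpa⟩ := Ideal.exists_minimalPrimes_le (J := a.asIdeal) hcl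
    obtain ⟨q, hq, -, hqp⟩ := Ideal.exists_comap_eq_of_mem_minimalPrimes (I := ⊥) φ p hp
    have hs : PrimeSpectrum.comap φ ⟨q, hq⟩ ⤳ a :=
      (PrimeSpectrum.le_iff_specializes _ _).mp (show q.comap φ ≤ a.asIdeal from hqp ▸ hpa)
    have heq : PrimeSpectrum.comap φ ⟨q, hq⟩ = a :=
      j.isOpenEmbedding.injective ((hmax _ (ha ▸ hs.map j.continuous)).trans ha.symm)
    have hmem : a ∈ j' ⁻¹' T := by
      rw [← hφ]; exact ⟨_, heq⟩
    have e : j' a = ⟨η, hηU⟩ := Subtype.ext ha
    exact e ▸ hmem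
  rw [← hSeq] at this
  exact this

lemma S15545 {X' X : Scheme.{u}} (f : X' ⟶ X)
    [Flat f] [QuasiCompact f] [Surjective f] (Z : Set X) (hZ : ProCons.IsProConstructible Z)
    (hd : Dense Z) : Dense (f.base ⁻¹' Z) := by
  intro x
  have hi : IsIrreducible (irreducibleComponent (f x)) := isIrreducible_irreducibleComponent
  have hg := hi.isGenericPoint_genericPoint isClosed_irreducibleComponent
  have hmax : ∀ z, z ⤳ hi.genericPoint → z = hi.genericPoint := by
    intro z hz
    have h1 : irreducibleComponent (f x) ⊆ closure {z} := hg.def ▸ hz.closure_subset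
    have h2 : closure {z} = irreducibleComponent (f x) :=
      ((irreducibleComponent_mem_irreducibleComponents (f x)).2 isIrreducible_singleton.closure h1).antisymm h1
    exact IsGenericPoint.eq (show IsGenericPoint z _ from h2) hg
  have hmem := mem_of_mem_closure_of_isProConstructible hZ hmax (hd _)
  obtain ⟨x', hx', e⟩ := Flat.generalizingMap f (hg.specializes (mem_irreducibleComponent (x := f x)))
  exact closure_mono (Set.singleton_subset_iff.mpr (show x' ∈ f.base ⁻¹' Z from by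
    simp only [Set.mem_preimage]; exact e ▸ hmem)) hx'.mem_closure

lemma S4656 {X Y Z : Scheme.{u}} (f : X ⟶ Y) (g : Y ⟶ Z) (x : X)
    (hf : (f.stalkMap x).hom.Flat) :
    ((f ≫ g).stalkMap x).hom.Flat ↔ (g.stalkMap (f x)).hom.Flat := by
  rw [show ((f ≫ g).stalkMap x).hom = (f.stalkMap x).hom.comp (g.stalkMap (f x)).hom from
    congrArg CommRingCat.Hom.hom (Scheme.Hom.stalkMap_comp f g x)]
  refine ⟨fun h ↦ ?_, fun h ↦ RingHom.Flat.comp h hf⟩
  set φ := (g.stalkMap (f x)).hom
  set ψ := (f.stalkMap x).hom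
  algebraize [φ, ψ, ψ.comp φ]
  have : IsLocalHom (algebraMap (Y.presheaf.stalk (f x)) (X.presheaf.stalk x)) :=
    inferInstanceAs (IsLocalHom (f.stalkMap x).hom)
  have hff : Module.FaithfullyFlat (Y.presheaf.stalk (f x)) (X.presheaf.stalk x) :=
    Module.FaithfullyFlat.of_flat_of_isLocalHom
  rw [RingHom.Flat]
  change Module.Flat (Z.presheaf.stalk (g (f x))) (Y.presheaf.stalk (f x))
  rw [Module.Flat.iff_lTensor_preserves_injective_linearMap]
  intro P Q _ _ _ _ u hu
  refine (Module.FaithfullyFlat.lTensor_injective_iff_injective (R := Y.presheaf.stalk (f x))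
    (X.presheaf.stalk x) (f := TensorProduct.AlgebraTensorModule.lTensor (Y.presheaf.stalk (f x)) (Y.presheaf.stalk (f x)) u)).mp ?_
  have : Module.Flat (Z.presheaf.stalk (g (f x))) (X.presheaf.stalk x) := by assumption
  have h2 := Module.Flat.lTensor_preserves_injective_linearMap (R := Z.presheaf.stalk (g (f x)))
    (M := X.presheaf.stalk x) u hu
  let cP := TensorProduct.AlgebraTensorModule.cancelBaseChange (Z.presheaf.stalk (g (f x)))
    (Y.presheaf.stalk (f x)) (Y.presheaf.stalk (f x)) (X.presheaf.stalk x) P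
  let cQ := TensorProduct.AlgebraTensorModule.cancelBaseChange (Z.presheaf.stalk (g (f x)))
    (Y.presheaf.stalk (f x)) (Y.presheaf.stalk (f x)) (X.presheaf.stalk x) Q
  intro a b hab
  apply cP.injective
  apply h2
  have key : ∀ a, (LinearMap.lTensor (X.presheaf.stalk x) u) (cP a) =
      cQ ((TensorProduct.AlgebraTensorModule.lTensor _ _ u).lTensor _ a) := by
    intro a
    induction a with
    | zero => simp
    | add x y hx hy => simp only [map_add, hx, hy]
    | tmul m z =>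
      induction z with
      | zero => simp
      | add x y hx hy => simp only [TensorProduct.tmul_add, map_add, hx, hy]
      | tmul b p => simp [cP, cQ]
  rw [key, key, hab]

lemma S2539 {X Y : Scheme.{u}} (f : X ⟶ Y) [Flat f] [Surjective f]
    (hX : Pi1.IsNormalScheme X) : Pi1.IsNormalScheme Y := by
  intro y
  obtain ⟨x, rfl⟩ := f.surjective y
  obtain ⟨hd, hn⟩ := hX x
  have hflat := Flat.stalkMap f x
  algebraize [(f.stalkMap x).hom]
  have : IsLocalHom (algebraMap (Y.presheaf.stalk (f x)) (X.presheaf.stalk x)) :=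
    inferInstanceAs (IsLocalHom (f.stalkMap x).hom)
  have hff : Module.FaithfullyFlat (Y.presheaf.stalk (f x)) (X.presheaf.stalk x) :=
    Module.FaithfullyFlat.of_flat_of_isLocalHom
  set φ := algebraMap (Y.presheaf.stalk (f x)) (X.presheaf.stalk x)
  have hinj : Function.Injective φ := FaithfulSMul.algebraMap_injective _ _
  have hdom : IsDomain (Y.presheaf.stalk (f x)) := hinj.isDomain φ
  refine ⟨hdom, (isIntegrallyClosed_iff (FractionRing (Y.presheaf.stalk (f x)))).mpr fun {z} hz ↦ ?_⟩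
  obtain ⟨a, b, hb, rfl⟩ := IsFractionRing.div_surjective (A := Y.presheaf.stalk (f x)) z
  let ψ : FractionRing (Y.presheaf.stalk (f x)) →+* FractionRing (X.presheaf.stalk x) :=
    IsFractionRing.lift (g := (algebraMap _ (FractionRing (X.presheaf.stalk x))).comp φ)
      ((IsFractionRing.injective (X.presheaf.stalk x) (FractionRing (X.presheaf.stalk x))).comp hinj)
  have hz' : IsIntegral (X.presheaf.stalk x)
      (ψ (algebraMap _ _ a / algebraMap _ _ b)) := by
    obtain ⟨P, hP, hev⟩ := hz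
    refine ⟨P.map φ, hP.map φ, ?_⟩
    have := congrArg ψ hev
    rw [map_zero, Polynomial.hom_eval₂] at this
    rw [Polynomial.eval₂_map]
    convert! this using 2
    ext r
    simp [ψ]
  obtain ⟨c, hc⟩ := IsIntegrallyClosed.isIntegral_iff.mp hz'
  have hne : b ≠ 0 := nonZeroDivisors.ne_zero hb
  have hb' : algebraMap _ (FractionRing (X.presheaf.stalk x)) (φ b) ≠ 0 := by
    simpa [map_eq_zero_iff _ (IsFractionRing.injective _ _), map_eq_zero_iff _ hinj] using hne
  have : φ a = φ b * c := by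
    apply IsFractionRing.injective (X.presheaf.stalk x) (FractionRing (X.presheaf.stalk x))
    rw [map_mul, hc]
    simp only [ψ, map_div₀, IsFractionRing.lift_algebraMap, RingHom.comp_apply]
    field_simp
  have : a ∈ Ideal.span {b} := by
    rw [← Ideal.comap_map_eq_self_of_faithfullyFlat (B := X.presheaf.stalk x) (Ideal.span {b}), Ideal.mem_comap,
      Ideal.map_span, Set.image_singleton, Ideal.mem_span_singleton]
    exact ⟨c, this⟩
  obtain ⟨d, rfl⟩ := Ideal.mem_span_singleton.mp this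
  exact ⟨d, by
    have : algebraMap _ (FractionRing (Y.presheaf.stalk (f x))) b ≠ 0 :=
      (map_ne_zero_iff _ (IsFractionRing.injective _ _)).mpr hne
    rw [map_mul, mul_div_cancel_left₀ _ this]⟩

lemma ker_eq_bot_of_flat_of_surjective {X Y : Scheme.{u}} (f : X ⟶ Y) [Flat f] [Surjective f] :
    f.ker = ⊥ := by
  apply le_bot_iff.mp
  intro U s hs
  have hs0 : f.app U.1 s = 0 := f.ideal_ker_le U hs
  rw [Scheme.IdealSheafData.ideal_bot, Pi.bot_apply, Submodule.mem_bot]
  refine TopCat.Presheaf.section_ext Y.sheaf _ _ _ fun y hy ↦ ?_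
  obtain ⟨x, rfl⟩ := f.surjective y
  have hflat := Flat.stalkMap f x
  algebraize [(f.stalkMap x).hom]
  have : IsLocalHom (algebraMap (Y.presheaf.stalk (f x)) (X.presheaf.stalk x)) :=
    inferInstanceAs (IsLocalHom (f.stalkMap x).hom)
  have hff : Module.FaithfullyFlat (Y.presheaf.stalk (f x)) (X.presheaf.stalk x) :=
    Module.FaithfullyFlat.of_flat_of_isLocalHom
  have hinj : Function.Injective (f.stalkMap x).hom :=
    FaithfulSMul.algebraMap_injective (Y.presheaf.stalk (f x)) (X.presheaf.stalk x)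
  apply hinj
  change (f.stalkMap x) (Y.presheaf.germ U.1 (f x) hy s) = (f.stalkMap x) (Y.presheaf.germ U.1 (f x) hy 0)
  rw [Scheme.Hom.germ_stalkMap_apply, Scheme.Hom.germ_stalkMap_apply, hs0]
  simp only [map_zero]

lemma S4666 {X Y : Scheme.{u}} (f : X ⟶ Y) [Flat f] [Surjective f] :
    Function.Injective fun J : Y.IdealSheafData => J.comap f := by
  intro J K h
  have key : ∀ J : Y.IdealSheafData, (J.comap f).map f = J := by
    intro J
    rw [Scheme.IdealSheafData.map, ← J.comapIso_hom_fst, Category.assoc, pullback.condition,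
      Scheme.Hom.ker_comp_of_isIso, Scheme.Hom.ker_comp,
      ker_eq_bot_of_flat_of_surjective (pullback.snd f J.subschemeι)]
    simp
  rw [← key J, ← key K]
  exact congrArg (Scheme.IdealSheafData.map · f) h

lemma S4647 {X Y : Scheme.{u}} (f : X ⟶ Y) [Flat f] [Surjective f]
    (hX : ∀ x : X, IsDomain ↑(X.presheaf.stalk x))
    (hY : ∀ y : Y, ∃ U : Y.Opens, y ∈ U ∧ TopologicalSpace.NoetherianSpace ↥U) (y : Y) :
    ∃ U : Y.Opens, y ∈ U ∧ IsIntegral (U : Scheme.{u}) := by
  have hdom : ∀ y : Y, IsDomain (Y.presheaf.stalk y) := by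
    intro y
    obtain ⟨x, rfl⟩ := f.surjective y
    have hflat := Flat.stalkMap f x
    algebraize [(f.stalkMap x).hom]
    have : IsLocalHom (algebraMap (Y.presheaf.stalk (f x)) (X.presheaf.stalk x)) :=
      inferInstanceAs (IsLocalHom (f.stalkMap x).hom)
    have hff : Module.FaithfullyFlat (Y.presheaf.stalk (f x)) (X.presheaf.stalk x) :=
      Module.FaithfullyFlat.of_flat_of_isLocalHom
    have := hX x
    exact (FaithfulSMul.algebraMap_injective (Y.presheaf.stalk (f x)) (X.presheaf.stalk x)).isDomain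
      (algebraMap (Y.presheaf.stalk (f x)) (X.presheaf.stalk x))
  obtain ⟨U, hyU, hU⟩ := hY y
  have huniq : ∀ Z₁ ∈ irreducibleComponents U, ∀ Z₂ ∈ irreducibleComponents U,
      ⟨y, hyU⟩ ∈ Z₁ → ⟨y, hyU⟩ ∈ Z₂ → Z₁ = Z₂ := by
    let γ : U.toScheme := U.toScheme.fromSpecStalk ⟨y, hyU⟩ ⟨⊥, by
      have := hdom (U.ι ⟨y, hyU⟩)
      have : IsDomain (U.toScheme.presheaf.stalk ⟨y, hyU⟩) :=
        MulEquiv.isDomain _ (U.stalkIso ⟨y, hyU⟩).commRingCatIsoToRingEquiv.toMulEquiv
      exact Ideal.isPrime_bot⟩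
    suffices ∀ Z ∈ irreducibleComponents U.toScheme, ⟨y, hyU⟩ ∈ Z → Z = closure {γ} from
      fun Z₁ h₁ Z₂ h₂ m₁ m₂ ↦ (this Z₁ h₁ m₁).trans (this Z₂ h₂ m₂).symm
    intro Z hZ hm
    have hg := hZ.1.isGenericPoint_genericPoint (isClosed_of_mem_irreducibleComponents Z hZ)
    obtain ⟨a, ha⟩ : hZ.1.genericPoint ∈ Set.range (U.toScheme.fromSpecStalk ⟨y, hyU⟩) := by
      exact (Set.ext_iff.mp Scheme.range_fromSpecStalk _).mpr (hg.specializes hm)
    have h1 : γ ⤳ hZ.1.genericPoint := by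
      rw [← ha]
      exact Specializes.map ((PrimeSpectrum.le_iff_specializes _ _).mp (show (⊥ : Ideal _) ≤ a.asIdeal from bot_le)) (Scheme.Hom.continuous _)
    have h2 : Z ⊆ closure {γ} := hg.def ▸ h1.closure_subset
    exact h2.antisymm (hZ.2 isIrreducible_singleton.closure h2)
  have : NoetherianSpace U.toScheme := hU
  let Z₀ : Set U.toScheme := irreducibleComponent ⟨y, hyU⟩
  let B : Set U.toScheme := ⋃ Z ∈ irreducibleComponents U \ {Z₀}, Z
  have hB : IsClosed B := Set.Finite.isClosed_biUnion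
    (NoetherianSpace.finite_irreducibleComponents.subset Set.sdiff_subset)
    fun Z hZ ↦ isClosed_of_mem_irreducibleComponents Z hZ.1
  let V : Y.Opens := ⟨Subtype.val '' Bᶜ, U.2.isOpenMap_subtype_val _ hB.isOpen_compl⟩
  have hyV : y ∈ V := by
    refine ⟨⟨y, hyU⟩, ?_, rfl⟩
    intro hy
    obtain ⟨Z, hZ, hyZ⟩ := Set.mem_iUnion₂.mp hy
    exact hZ.2 (huniq Z hZ.1 Z₀ (irreducibleComponent_mem_irreducibleComponents _) hyZ mem_irreducibleComponent)
  refine ⟨V, hyV, ?_⟩
  have hsub : Bᶜ ⊆ Z₀ := by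
    intro z hz
    by_contra hzZ
    apply hz
    simp only [B, Set.mem_iUnion]
    exact ⟨irreducibleComponent z, ⟨irreducibleComponent_mem_irreducibleComponents z,
      fun h ↦ hzZ (show z ∈ Z₀ from (Set.mem_singleton_iff.mp h) ▸ mem_irreducibleComponent)⟩, mem_irreducibleComponent⟩
  have hirr : IsIrreducible (V : Set Y) := by
    have h1 : IsIrreducible Bᶜ := by
      have hne : (Bᶜ).Nonempty := by
        obtain ⟨z, hz, -⟩ := hyV
        exact ⟨z, hz⟩
      refine ⟨hne, ?_⟩
      have := (isIrreducible_irreducibleComponent (x := (⟨y, hyU⟩ : U))).2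
      intro u v hu hv ⟨a, ha1, ha2⟩ ⟨b, hb1, hb2⟩
      obtain ⟨c, -, ⟨c1, c2⟩, c3, -⟩ := this (u ∩ Bᶜ) (v ∩ Bᶜ) (hu.inter hB.isOpen_compl) (hv.inter hB.isOpen_compl)
        ⟨a, hsub ha1, ha2, ha1⟩ ⟨b, hsub hb1, hb2, hb1⟩
      exact ⟨c, c2, c1, c3⟩
    exact h1.image _ continuous_subtype_val.continuousOn
  have : IrreducibleSpace V.toScheme := by
    rw [irreducibleSpace_def]
    have h0 : V.ι ⁻¹' (V : Set Y) = Set.univ := Set.eq_univ_of_forall fun v ↦ v.2
    simpa [h0] using hirr.preimage V.ι.isOpenEmbedding (by simp; exact hirr.1)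
  have : ∀ v : V.toScheme, _root_.IsReduced (V.toScheme.presheaf.stalk v) := fun v ↦ by
    have := hdom (V.ι v)
    have : IsDomain (V.toScheme.presheaf.stalk v) :=
      MulEquiv.isDomain _ (V.stalkIso v).commRingCatIsoToRingEquiv.toMulEquiv
    infer_instance
  have := isReduced_of_isReduced_stalk V.toScheme
  exact isIntegral_of_irreducibleSpace_of_isReduced _

set_option backward.isDefEq.respectTransparency false in
lemma S2492 {X Y : Scheme.{u}} (f : X ⟶ Y)
    [Flat f] [Surjective f] [QuasiCompact f] [IsLocallyNoetherian X] : IsLocallyNoetherian Y := by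
  refine ⟨fun U ↦ ?_⟩
  have : CompactSpace (f ⁻¹ᵁ U.1).toScheme :=
    isCompact_iff_compactSpace.mp (QuasiCompact.isCompact_preimage (f := f) U.1 U.1.2 U.2.isCompact)
  have : IsLocallyNoetherian (f ⁻¹ᵁ U.1).toScheme := isLocallyNoetherian_of_isOpenImmersion (f ⁻¹ᵁ U.1).ι
  let 𝒰 := (f ⁻¹ᵁ U.1).toScheme.affineCover.finiteSubcover
  let p : ∐ (fun i : 𝒰.I₀ ↦ 𝒰.X i) ⟶ (f ⁻¹ᵁ U.1).toScheme := Sigma.desc (fun i ↦ 𝒰.f i)
  have : LocallyOfFiniteType p := IsZariskiLocalAtSource.sigmaDesc (P := (@LocallyOfFiniteType : MorphismProperty Scheme.{u})) fun _ ↦ inferInstance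
  have : Surjective p := inferInstanceAs (Surjective (Sigma.desc fun i ↦ 𝒰.f i))
  have : Flat p := inferInstanceAs (Flat (Sigma.desc fun i ↦ 𝒰.f i))
  have : IsLocallyNoetherian (∐ fun i : 𝒰.I₀ ↦ 𝒰.X i) :=
    LocallyOfFiniteType.isLocallyNoetherian p
  have : IsAffine U.1.toScheme := U.2
  let h := p ≫ f ∣_ U.1
  have : Surjective (f ∣_ U.1) := IsZariskiLocalAtTarget.restrict (P := @Surjective) ‹_› U.1
  have : Surjective h := inferInstanceAs (Surjective (p ≫ f ∣_ U.1))
  have : Flat h := inferInstanceAs (Flat (p ≫ f ∣_ U.1))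
  have hN : IsNoetherianRing Γ((∐ fun i : 𝒰.I₀ ↦ 𝒰.X i), ⊤) :=
    IsLocallyNoetherian.component_noetherian ⟨⊤, isAffineOpen_top _⟩
  have hff := ((Flat.flat_and_surjective_iff_faithfullyFlat_of_isAffine h).mp ⟨inferInstance, inferInstance⟩)
  have hN' : IsNoetherianRing Γ(U.1.toScheme, ⊤) := by
    algebraize [h.appTop.hom]
    have : Module.FaithfullyFlat Γ(U.1.toScheme, ⊤) Γ((∐ fun i : 𝒰.I₀ ↦ 𝒰.X i), ⊤) := hff
    rw [isNoetherianRing_iff, isNoetherian_iff'] at hN ⊢
    exact StrictMono.wellFoundedGT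
      (Monotone.strictMono_of_injective (fun _ _ h ↦ Ideal.map_mono h)
        (Ideal.map_injective_of_faithfullyFlat (B := Γ((∐ fun i : 𝒰.I₀ ↦ 𝒰.X i), ⊤))))
  exact isNoetherianRing_of_ringEquiv _ U.1.topIso.commRingCatIsoToRingEquiv

end Groth.Agent.FDesc60
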