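import Groth.Agent.FDesc60.QF

set_option autoImplicit false
universe u v w

open AlgebraicGeometry CategoryTheory CategoryTheory.Limits Topology
open scoped TensorProduct

namespace Groth.Agent.FDesc60

/-- Tensoring a module flat over `R` with a flat `S`-module keeps it flat over `R`. -/
lemma flat_tensor_of_flat {R S L W : Type u} [CommRing R] [CommRing S] [Algebra R S]
    [AddCommGroup L] [Module S L] [Module R L] [IsScalarTower R S L] [Module.Flat S L]
    [AddCommGroup W] [Module S W] [Module R W] [IsScalarTower R S W] [Module.Flat R W] :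
    Module.Flat R (L ⊗[S] W) := by
  rw [Module.Flat.iff_lTensor_preserves_injective_linearMap]
  intro P Q _ _ _ _ u hu
  have h1 : Function.Injective (TensorProduct.AlgebraTensorModule.lTensor S W u) :=
    Module.Flat.lTensor_preserves_injective_linearMap (M := W) u hu
  have h2 := Module.Flat.lTensor_preserves_injective_linearMap (R := S) (M := L)
    (TensorProduct.AlgebraTensorModule.lTensor S W u) h1
  let eP := TensorProduct.AlgebraTensorModule.assoc R S S L W P
  let eQ := TensorProduct.AlgebraTensorModule.assoc R S S L W Q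
  have key : ∀ t, eQ (u.lTensor (L ⊗[S] W) t) =
      (TensorProduct.AlgebraTensorModule.lTensor S W u).lTensor L (eP t) := by
    intro t
    induction t with
    | zero => simp
    | add a b ha hb => simp only [map_add, ha, hb]
    | tmul lw p =>
      induction lw with
      | zero => simp
      | add a b ha hb => simp only [TensorProduct.add_tmul, map_add, ha, hb]
      | tmul l w => simp [eP, eQ]
  intro a b hab
  exact eP.injective (h2 ((key a).symm.trans ((congrArg eQ hab).trans (key b))))

/-- Generalisations lift in a base change of a quasi-flat local extension. -/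
lemma exists_prime_over {A B C : Type u} [CommRing A] [CommRing B] [CommRing C] [IsLocalRing B]
    [IsLocalRing C] [Algebra A B] [Algebra A C] (N : Type u) [AddCommGroup N] [Module C N]
    [Module A N] [IsScalarTower A C N] [Module.Finite C N] [Nontrivial N] [Module.Flat A N]
    (r : Ideal (B ⊗[A] C)) [r.IsPrime]
    (hB : r.comap (Algebra.TensorProduct.includeLeftRingHom : B →+* B ⊗[A] C) = IsLocalRing.maximalIdeal B)
    (hC : r.comap ((Algebra.TensorProduct.includeRight : C →ₐ[A] B ⊗[A] C).toRingHom) = IsLocalRing.maximalIdeal C)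
    (p' : Ideal B) [p'.IsPrime] :
    ∃ q : Ideal (B ⊗[A] C), q.IsPrime ∧ q ≤ r ∧
      q.comap (Algebra.TensorProduct.includeLeftRingHom : B →+* B ⊗[A] C) = p' := by
  let : Algebra C (B ⊗[A] C) := Algebra.TensorProduct.rightAlgebra
  let L := Localization.AtPrime r
  let e := Algebra.IsPushout.cancelBaseChange A B C (B ⊗[A] C) N
  have hW : Module.Flat B ((B ⊗[A] C) ⊗[C] N) := Module.Flat.of_linearEquiv e
  have hLW : Module.Flat B (L ⊗[B ⊗[A] C] ((B ⊗[A] C) ⊗[C] N)) := flat_tensor_of_flat
  let e2 : L ⊗[B ⊗[A] C] ((B ⊗[A] C) ⊗[C] N) ≃ₗ[L] L ⊗[C] N :=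
    TensorProduct.AlgebraTensorModule.cancelBaseChange C (B ⊗[A] C) L L N
  have hL : Module.Flat B (L ⊗[C] N) := Module.Flat.of_linearEquiv (e2.restrictScalars B).symm
  have hlocB : IsLocalHom (algebraMap B L) := by
    refine ⟨fun b hb ↦ ?_⟩
    by_contra hb'
    have h1 : algebraMap B (B ⊗[A] C) b ∈ r := by
      have : b ∈ IsLocalRing.maximalIdeal B := hb'
      rw [← hB] at this; exact this
    rw [IsScalarTower.algebraMap_apply B (B ⊗[A] C) L,
      IsLocalization.AtPrime.isUnit_to_map_iff L r] at hb
    exact hb h1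
  have hlocC : IsLocalHom (algebraMap C L) := by
    refine ⟨fun b hb ↦ ?_⟩
    by_contra hb'
    have h1 : algebraMap C (B ⊗[A] C) b ∈ r := by
      have : b ∈ IsLocalRing.maximalIdeal C := hb'
      rw [← hC] at this; exact this
    rw [IsScalarTower.algebraMap_apply C (B ⊗[A] C) L,
      IsLocalization.AtPrime.isUnit_to_map_iff L r] at hb
    exact hb h1
  have hnt : Nontrivial (L ⊗[C] N) := by
    let kC := IsLocalRing.ResidueField C
    let kL := IsLocalRing.ResidueField L
    have h1 : Nontrivial (kC ⊗[C] N) := by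
      rw [← not_subsingleton_iff_nontrivial, IsLocalRing.subsingleton_tensorProduct]
      exact not_subsingleton N
    have h2 : Nontrivial (kL ⊗[kC] (kC ⊗[C] N)) := inferInstance
    have h3 : Nontrivial (kL ⊗[C] N) :=
      (TensorProduct.AlgebraTensorModule.cancelBaseChange C kC kL kL N).symm.toEquiv.nontrivial
    exact (LinearMap.rTensor_surjective N
      (g := (IsScalarTower.toAlgHom C L kL).toLinearMap) IsLocalRing.residue_surjective).nontrivial
  obtain ⟨P, hP⟩ := comap_surjective_of_finite_flat (A := B) (B := L) (L ⊗[C] N) ⟨p', inferInstance⟩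
  refine ⟨P.asIdeal.comap (algebraMap (B ⊗[A] C) L), inferInstance, ?_, ?_⟩
  · have : P.asIdeal ≤ IsLocalRing.maximalIdeal L := IsLocalRing.le_maximalIdeal P.2.ne_top
    refine (Ideal.comap_mono this).trans_eq ?_
    exact IsLocalization.AtPrime.comap_maximalIdeal L r
  · rw [Ideal.comap_comap]
    exact congrArg PrimeSpectrum.asIdeal hP

lemma generalizingMap_pullback_fst_of_isQuasiFlat {X Y Y' : Scheme.{u}} (f : X ⟶ Y) (g : Y' ⟶ Y)
    (hg : FDesc.IsQuasiFlat g) : GeneralizingMap (pullback.fst f g).base := by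
  obtain ⟨M, hM, hfl, hnt⟩ := hg
  intro z x' hx'
  let P := pullback f g
  let p1 := pullback.fst f g
  let p2 := pullback.snd f g
  have e : f (p1 z) = g (p2 z) := congr($(pullback.condition (f := f) (g := g)) z)
  let φ : Y.presheaf.stalk (g (p2 z)) ⟶ X.presheaf.stalk (p1 z) :=
    Y.presheaf.stalkSpecializes (specializes_of_eq e) ≫ f.stalkMap (p1 z)
  have hφ : Spec.map φ ≫ Y.fromSpecStalk _ = X.fromSpecStalk (p1 z) ≫ f := by
    simp only [φ, Spec.map_comp, Category.assoc]
    rw [Scheme.SpecMap_stalkSpecializes_fromSpecStalk, Scheme.SpecMap_stalkMap_fromSpecStalk]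
  letI := FlatMod.moduleStalkOver g M (p2 z)
  let A : CommRingCat := Y.presheaf.stalk (g (p2 z))
  let B : CommRingCat := X.presheaf.stalk (p1 z)
  let C : CommRingCat := Y'.presheaf.stalk (p2 z)
  letI : Algebra A C := (g.stalkMap (p2 z)).hom.toAlgebra
  letI : Algebra A B := φ.hom.toAlgebra
  letI : Module A (M.presheaf.stalk (p2 z)) := FlatMod.moduleStalkOver g M (p2 z)
  letI : Module C (M.presheaf.stalk (p2 z)) := FlatMod.moduleStalk M (p2 z)
  have : IsLocalRing C := inferInstanceAs (IsLocalRing (Y'.presheaf.stalk (p2 z)))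
  have : IsLocalRing B := inferInstanceAs (IsLocalRing (X.presheaf.stalk (p1 z)))
  have : IsScalarTower A C (M.presheaf.stalk (p2 z)) :=
    ⟨fun a b n ↦ by rw [Algebra.smul_def]; exact mul_smul ((g.stalkMap (p2 z)).hom a) b n⟩
  have : Module.Flat A (M.presheaf.stalk (p2 z)) := hfl (p2 z)
  have := hnt (p2 z)
  have : Module.Finite C (M.presheaf.stalk (p2 z)) := finite_stalk_of_isCoh M hM (p2 z)
  have hagree : φ ≫ p1.stalkMap z = g.stalkMap (p2 z) ≫ p2.stalkMap z := by
    apply Spec.map_injective
    rw [← cancel_mono (Y.fromSpecStalk (g (p2 z)))]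
    simp only [Spec.map_comp, Category.assoc, hφ]
    simp only [Scheme.SpecMap_stalkMap_fromSpecStalk, Scheme.SpecMap_stalkMap_fromSpecStalk_assoc]
    simp only [p1, p2, pullback.condition]
  let T : CommRingCat := CommRingCat.of (B ⊗[A] C)
  let iB : B ⟶ T := CommRingCat.ofHom (Algebra.TensorProduct.includeLeftRingHom (R := A) (A := B) (B := C))
  let iC : C ⟶ T := CommRingCat.ofHom (Algebra.TensorProduct.includeRight : C →ₐ[A] B ⊗[A] C).toRingHom
  have hi : φ ≫ iB = g.stalkMap (p2 z) ≫ iC := by
    ext a
    exact (AlgHom.commutes (Algebra.TensorProduct.includeRight : C →ₐ[A] B ⊗[A] C) a).symm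
  let h : Spec T ⟶ P := pullback.lift (Spec.map iB ≫ X.fromSpecStalk (p1 z))
    (Spec.map iC ≫ Y'.fromSpecStalk (p2 z)) (by
      rw [Category.assoc, Category.assoc, ← hφ, ← Scheme.SpecMap_stalkMap_fromSpecStalk, ← Spec.map_comp_assoc,
        ← Spec.map_comp_assoc, hi])
  letI : Algebra A (P.presheaf.stalk z) := (φ ≫ p1.stalkMap z).hom.toAlgebra
  let ωB : B →ₐ[A] P.presheaf.stalk z := AlgHom.mk (p1.stalkMap z).hom fun a ↦ rfl
  let ωC : C →ₐ[A] P.presheaf.stalk z := AlgHom.mk (p2.stalkMap z).hom fun a ↦
    (congr($(hagree) a)).symm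
  let ω : B ⊗[A] C →ₐ[A] P.presheaf.stalk z := Algebra.TensorProduct.lift ωB ωC fun _ _ ↦ Commute.all _ _
  have hωB : iB ≫ CommRingCat.ofHom ω.toRingHom = p1.stalkMap z := by
    ext b
    change ω ((b : B) ⊗ₜ[A] (1 : C)) = _
    rw [Algebra.TensorProduct.lift_tmul, map_one, mul_one]
    rfl
  have hωC : iC ≫ CommRingCat.ofHom ω.toRingHom = p2.stalkMap z := by
    ext b
    change ω ((1 : B) ⊗ₜ[A] (b : C)) = _
    rw [Algebra.TensorProduct.lift_tmul, map_one, one_mul]
    rfl
  have hω : Spec.map (CommRingCat.ofHom ω.toRingHom) ≫ h = P.fromSpecStalk z := by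
    apply pullback.hom_ext
    · rw [Category.assoc, pullback.lift_fst, ← Spec.map_comp_assoc, hωB, Scheme.SpecMap_stalkMap_fromSpecStalk]
    · rw [Category.assoc, pullback.lift_snd, ← Spec.map_comp_assoc, hωC, Scheme.SpecMap_stalkMap_fromSpecStalk]
  let r : Ideal (B ⊗[A] C) := (IsLocalRing.maximalIdeal (P.presheaf.stalk z)).comap ω.toRingHom
  have hr : h ⟨r, inferInstance⟩ = z := by
    have := congr($(hω) (IsLocalRing.closedPoint (P.presheaf.stalk z)))
    rw [Scheme.fromSpecStalk_closedPoint] at this
    exact this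
  have hloc1 : IsLocalHom ωB.toRingHom := inferInstanceAs (IsLocalHom (p1.stalkMap z).hom)
  have hloc2 : IsLocalHom ωC.toRingHom := inferInstanceAs (IsLocalHom (p2.stalkMap z).hom)
  have hB : r.comap (Algebra.TensorProduct.includeLeftRingHom : B →+* B ⊗[A] C) = IsLocalRing.maximalIdeal B := by
    have : ω.toRingHom.comp Algebra.TensorProduct.includeLeftRingHom = ωB.toRingHom := by
      ext b; simp [ω]
    rw [Ideal.comap_comap, this]
    exact IsLocalRing.maximalIdeal_comap ωB.toRingHom
  have hC : r.comap ((Algebra.TensorProduct.includeRight : C →ₐ[A] B ⊗[A] C).toRingHom) = IsLocalRing.maximalIdeal C := by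
    have : ω.toRingHom.comp (Algebra.TensorProduct.includeRight : C →ₐ[A] B ⊗[A] C).toRingHom = ωC.toRingHom := by
      ext b; simp [ω]
    rw [Ideal.comap_comap, this]
    exact IsLocalRing.maximalIdeal_comap ωC.toRingHom
  obtain ⟨p', hp'⟩ : x' ∈ Set.range (X.fromSpecStalk (p1 z)) :=
    (Set.ext_iff.mp Scheme.range_fromSpecStalk _).mpr hx'
  obtain ⟨q, hq, hqr, hqp⟩ := exists_prime_over (A := A) (B := B) (C := C) (M.presheaf.stalk (p2 z)) r hB hC p'.asIdeal
  refine ⟨h ⟨q, hq⟩, ?_, ?_⟩
  · rw [← hr]
    exact Specializes.map ((PrimeSpectrum.le_iff_specializes _ _).mp hqr) h.continuous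
  · have h1 : h ≫ p1 = Spec.map iB ≫ X.fromSpecStalk (p1 z) := pullback.lift_fst _ _ _
    have := congr($(h1) (⟨q, hq⟩ : PrimeSpectrum (B ⊗[A] C)))
    refine this.trans ?_
    rw [← hp']
    exact congrArg (X.fromSpecStalk (p1 z)) (show Spec.map iB (⟨q, hq⟩ : PrimeSpectrum (B ⊗[A] C)) = p' from PrimeSpectrum.ext hqp)

lemma eq_of_specializes_of_closure_mem_irreducibleComponents {α : Type*} [TopologicalSpace α] [T0Space α]
    {a b : α} (h : closure {a} ∈ irreducibleComponents α) (hb : b ⤳ a) : b = a := by
  have h1 : closure {a} ⊆ closure {b} := hb.closure_subset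
  have h2 : closure {b} = closure {a} := (h.2 isIrreducible_singleton.closure h1).antisymm h1
  exact (inseparable_iff_closure_eq.mpr h2).eq

lemma closure_mem_irreducibleComponents_of_forall_eq {α : Type*} [TopologicalSpace α] [QuasiSober α]
    {a : α} (h : ∀ b, b ⤳ a → b = a) : closure {a} ∈ irreducibleComponents α := by
  refine ⟨isIrreducible_singleton.closure, fun Z hZ hle ↦ ?_⟩
  have hz := hZ.isGenericPoint_genericPoint_closure
  have := h _ (hz.specializes (subset_closure (hle (subset_closure rfl))))
  intro c hc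
  rw [← this]
  exact (hz.specializes (subset_closure hc)).mem_closure

lemma S4633 {X Y Y' : Scheme.{u}} (f : X ⟶ Y) (g : Y' ⟶ Y)
    (hf : ∀ Z ∈ irreducibleComponents ↥X, closure (⇑f '' Z) ∈ irreducibleComponents ↥Y)
    (hg : FDesc.IsQuasiFlat g) (Z' : Set ↥(pullback f g)) (hZ' : Z' ∈ irreducibleComponents ↥(pullback f g)) :
    closure (⇑(pullback.snd f g) '' Z') ∈ irreducibleComponents ↥Y' := by
  have hgz := hZ'.1.isGenericPoint_genericPoint (isClosed_of_mem_irreducibleComponents Z' hZ')
  set z := hZ'.1.genericPoint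
  have hzmax : ∀ w, w ⤳ z → w = z := fun w hw ↦
    eq_of_specializes_of_closure_mem_irreducibleComponents (hgz.def.symm ▸ hZ') hw
  have hcl : closure (⇑(pullback.snd f g) '' Z') = closure {pullback.snd f g z} :=
    (hgz.image (pullback.snd f g).continuous).def.symm
  rw [hcl]
  refine closure_mem_irreducibleComponents_of_forall_eq fun y'' hy'' ↦ ?_
  have hxmax : ∀ x', x' ⤳ pullback.fst f g z → x' = pullback.fst f g z := by
    intro x' hx'
    obtain ⟨w, hw, e⟩ := generalizingMap_pullback_fst_of_isQuasiFlat f g hg hx'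
    rw [← e, hzmax w hw]
  have hη := hf _ (closure_mem_irreducibleComponents_of_forall_eq hxmax)
  have hcl2 : closure (f '' closure {pullback.fst f g z}) = closure {f (pullback.fst f g z)} :=
    (((show IsGenericPoint (pullback.fst f g z) (closure {pullback.fst f g z}) from rfl)).image f.continuous).def.symm
  rw [hcl2] at hη
  let q := pullback.fst f g ≫ f
  have hq2 : q = pullback.snd f g ≫ g := pullback.condition
  have hgy : g y'' = q z := by
    refine eq_of_specializes_of_closure_mem_irreducibleComponents hη ?_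
    have : q z = g (pullback.snd f g z) := congr($(hq2) z)
    rw [this]
    exact hy''.map g.continuous
  let i := Y.fromSpecResidueField (q z)
  let W := pullback (pullback.snd f i) (pullback.snd g i)
  let π : W ⟶ pullback g i := pullback.snd _ _
  let j : W ⟶ pullback f g := pullback.lift (pullback.fst _ _ ≫ pullback.fst f i) (π ≫ pullback.fst g i) (by
    simp only [π, Category.assoc, pullback.condition]
    rw [← Category.assoc, pullback.condition, Category.assoc])
  let u := Spec.map (q.residueFieldMap z)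
  have hu : u ≫ i = (pullback f g).fromSpecResidueField z ≫ q := q.SpecMap_residueFieldMap_fromSpecResidueField z
  let a : Spec ((pullback f g).residueField z) ⟶ pullback f i :=
    pullback.lift ((pullback f g).fromSpecResidueField z ≫ pullback.fst f g) u (by rw [hu, Category.assoc])
  let b : Spec ((pullback f g).residueField z) ⟶ pullback g i :=
    pullback.lift ((pullback f g).fromSpecResidueField z ≫ pullback.snd f g) u (by rw [hu, Category.assoc, hq2])
  let c : Spec ((pullback f g).residueField z) ⟶ W := pullback.lift a b ((pullback.lift_snd _ _ _).trans (pullback.lift_snd _ _ _).symm)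
  have hcj : c ≫ j = (pullback f g).fromSpecResidueField z := by
    apply pullback.hom_ext
    · rw [Category.assoc, pullback.lift_fst, pullback.lift_fst_assoc, pullback.lift_fst]
    · rw [Category.assoc, pullback.lift_snd, pullback.lift_snd_assoc, pullback.lift_fst]
  let w := c (IsLocalRing.closedPoint _)
  have hjw : j w = z := by
    have := congr($(hcj) (IsLocalRing.closedPoint _))
    exact this.trans (Scheme.fromSpecResidueField_apply _ _)
  obtain ⟨v, hv⟩ : y'' ∈ Set.range (pullback.fst g i) := by
    rw [Scheme.Pullback.range_fst, Scheme.range_fromSpecResidueField]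
    exact hgy
  have hπw : pullback.fst g i (π w) = pullback.snd f g z :=
    (congr($((pullback.lift_snd _ _ _ : j ≫ pullback.snd f g = _)) w).symm).trans
      (congrArg (pullback.snd f g) hjw)
  have hspec : v ⤳ π w := by
    rw [← (Scheme.Hom.isEmbedding (pullback.fst g i)).isInducing.specializes_iff, hv, hπw]
    exact hy''
  obtain ⟨w', hw', e'⟩ := Flat.generalizingMap π hspec
  have hz' : j w' = z := hzmax _ (hjw ▸ hw'.map j.continuous)
  rw [← hv, ← e']
  exact (congr($((pullback.lift_snd _ _ _ : j ≫ pullback.snd f g = _)) w').symm).trans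
    (congrArg (pullback.snd f g) hz')

end Groth.Agent.FDesc60
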