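import Mathlib
import Groth.Prelude.Def_FDesc
import Groth.Agent.QC70.Stalk
import Groth.Agent.FDesc60.Topo2

set_option autoImplicit false
universe u v

open AlgebraicGeometry CategoryTheory CategoryTheory.Limits Topology
open scoped TensorProduct

namespace Groth.Agent.FDesc60

/-- The stalk of a quasi-coherent module of finite type is a finite module. -/
lemma finite_stalk_of_isCoh {X : Scheme.{u}} (M : X.Modules) (hM : Coh.IsCoh M) (x : X) :
    Module.Finite (X.presheaf.stalk x) (M.presheaf.stalk x) := by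
  classical
  obtain ⟨U, hU, hxU, -⟩ := exists_isAffineOpen_mem_and_subset (X := X) (x := x) (U := ⊤) trivial
  have := hM.1
  have := hM.2
  have hloc := QC70.isLocAt_of_isQuasicoherent M hU
  obtain ⟨s, hs⟩ := (QC70.finite_sections_of_isFiniteType M hU).fg_top
  refine ⟨⟨s.image (fun t ↦ QC70.germM M U x hxU t), top_le_iff.mp fun e _ ↦ ?_⟩⟩
  obtain ⟨f, t, hf, he⟩ := QC70.stalk_exists_smul hloc hU hxU e
  have hmem : QC70.germM M U x hxU t ∈
      Submodule.span (X.presheaf.stalk x) (s.image (fun t ↦ QC70.germM M U x hxU t) : Set _) := by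
    clear he
    have ht : t ∈ Submodule.span Γ(X, U) (s : Set _) := hs ▸ Submodule.mem_top
    induction ht using Submodule.span_induction with
    | mem a ha => exact Submodule.subset_span (by exact Finset.mem_image_of_mem _ ha)
    | zero => rw [QC70.germM_zero]; exact zero_mem _
    | add a b _ _ ha hb => rw [QC70.germM_add]; exact add_mem ha hb
    | smul r a _ ha => rw [QC70.germM_smul]; exact Submodule.smul_mem _ _ ha
  rw [← he] at hmem
  exact (Submodule.smul_mem_iff_of_isUnit _ (QC70.isUnit_germ hf)).mp hmem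

/-- A nonzero finite module over a local `B`, flat over a local `A`, makes `Spec B → Spec A` surjective. -/
lemma comap_surjective_of_finite_flat {A B : Type u} [CommRing A] [CommRing B] [IsLocalRing A]
    [IsLocalRing B] [Algebra A B] [IsLocalHom (algebraMap A B)]
    (N : Type u) [AddCommGroup N] [Module B N] [Module A N] [IsScalarTower A B N]
    [Module.Finite B N] [Nontrivial N] [Module.Flat A N] :
    Function.Surjective (PrimeSpectrum.comap (algebraMap A B)) := by
  have hff : Module.FaithfullyFlat A N := by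
    refine { submodule_ne_top := fun m hm h ↦ ?_ }
    have h1 : (⊤ : Submodule B N) ≤ IsLocalRing.maximalIdeal B • ⊤ := by
      intro n _
      have : n ∈ (m • ⊤ : Submodule A N) := by rw [h]; trivial
      refine Submodule.smul_induction_on this (fun r hr n _ ↦ ?_) (fun a b ha hb ↦ add_mem ha hb)
      rw [← algebraMap_smul B r n]
      refine Submodule.smul_mem_smul ?_ trivial
      rw [IsLocalRing.eq_maximalIdeal hm] at hr
      exact (IsLocalRing.mem_maximalIdeal _).mpr fun hu ↦ hr (IsUnit.of_map (algebraMap A B) r hu)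
    have := Submodule.eq_bot_of_le_smul_of_le_jacobson_bot _ _ Module.Finite.fg_top h1
      (IsLocalRing.maximalIdeal_le_jacobson _)
    exact top_ne_bot this
  intro p
  have : Nontrivial (p.asIdeal.ResidueField ⊗[A] N) := inferInstance
  refine (PrimeSpectrum.nontrivial_iff_mem_rangeComap (S := B) p).mp ?_
  by_contra hB
  rw [not_nontrivial_iff_subsingleton] at hB
  refine not_subsingleton (p.asIdeal.ResidueField ⊗[A] N) (subsingleton_of_forall_eq 0 fun z ↦ ?_)
  induction z with
  | zero => rfl
  | add a b ha hb => rw [ha, hb, add_zero]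
  | tmul k n =>
    have := congrArg ((((LinearMap.toSpanSingleton B N n).restrictScalars A)).lTensor p.asIdeal.ResidueField)
      (Subsingleton.elim (k ⊗ₜ[A] (1 : B)) 0)
    simpa using this

lemma S2493 {X Y : Scheme.{u}} (f : X ⟶ Y) (hf : FDesc.IsQuasiFlat f) :
    GeneralizingMap f.base := by
  obtain ⟨M, hM, hfl, hnt⟩ := hf
  intro x y' hy'
  obtain ⟨q, hq⟩ : y' ∈ Set.range (Y.fromSpecStalk (f x)) :=
    (Set.ext_iff.mp Scheme.range_fromSpecStalk _).mpr hy'
  letI := FlatMod.moduleStalkOver f M x
  letI : Algebra (Y.presheaf.stalk (f x)) (X.presheaf.stalk x) := (f.stalkMap x).hom.toAlgebra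
  have : IsLocalHom (algebraMap (Y.presheaf.stalk (f x)) (X.presheaf.stalk x)) :=
    inferInstanceAs (IsLocalHom (f.stalkMap x).hom)
  have : IsScalarTower (Y.presheaf.stalk (f x)) (X.presheaf.stalk x) (M.presheaf.stalk x) :=
    ⟨fun a b n ↦ by rw [Algebra.smul_def]; exact mul_smul ((f.stalkMap x).hom a) b n⟩
  have : Module.Flat (Y.presheaf.stalk (f x)) (M.presheaf.stalk x) := hfl x
  have := hnt x
  have := finite_stalk_of_isCoh M hM x
  obtain ⟨p, hp⟩ := comap_surjective_of_finite_flat (A := Y.presheaf.stalk (f x))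
    (B := X.presheaf.stalk x) (M.presheaf.stalk x) q
  refine ⟨X.fromSpecStalk x p, (Set.ext_iff.mp Scheme.range_fromSpecStalk _).mp ⟨p, rfl⟩, ?_⟩
  rw [← hq, ← hp]
  exact congr($((Scheme.SpecMap_stalkMap_fromSpecStalk f (x := x))) p).symm

lemma preimage_closure_range_eq {X Y Y' : Scheme.{u}} (f : X ⟶ Y)
    (hf : GeneralizingMap f.base) (g : Y' ⟶ Y) [QuasiCompact g] :
    f.base ⁻¹' closure (Set.range g.base) = closure (f.base ⁻¹' Set.range g.base) := by
  refine subset_antisymm (fun x hx ↦ ?_) (f.continuous.closure_preimage_subset _)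
  obtain ⟨y', hy'⟩ := exists_specializes_of_mem_closure_range g (show f x ∈ closure _ from hx)
  obtain ⟨x', hx', e⟩ := hf hy'
  exact closure_mono (Set.singleton_subset_iff.mpr (show x' ∈ f.base ⁻¹' Set.range g.base from
    ⟨y', e.symm⟩)) hx'.mem_closure

lemma S2494 {X Y Y' : Scheme.{u}} (f : X ⟶ Y)
    (hf : FDesc.IsQuasiFlat f) (g : Y' ⟶ Y) [QuasiCompact g] :
    f.base ⁻¹' closure (Set.range g.base) = closure (f.base ⁻¹' Set.range g.base) :=
  preimage_closure_range_eq f (S2493 f hf) g

lemma exists_range_eq_image_of_isClosed {X Y : Scheme.{u}} (f : X ⟶ Y) [QuasiCompact f]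
    (F : Set X) (hF : IsClosed F) :
    ∃ (F' : Scheme.{u}) (g : F' ⟶ Y), QuasiCompact g ∧ Set.range g = f '' F := by
  let I := Scheme.IdealSheafData.vanishingIdeal ⟨F, hF⟩
  refine ⟨I.subscheme, I.subschemeι ≫ f, inferInstance, ?_⟩
  rw [Scheme.Hom.comp_base, TopCat.coe_comp, Set.range_comp, Scheme.IdealSheafData.range_subschemeι,
    Scheme.IdealSheafData.coe_support_vanishingIdeal]
  simp

lemma S4634 {X Y : Scheme.{u}} (f : X ⟶ Y) (hf : FDesc.IsQuasiFlat f)
    [QuasiCompact f] (F : Set ↥X) (hF : IsClosed F) (hsat : ⇑f ⁻¹' (⇑f '' F) = F) :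
    ⇑f ⁻¹' closure (⇑f '' F) = F := by
  obtain ⟨F', g, hg, hrange⟩ := exists_range_eq_image_of_isClosed f F hF
  have := S2494 f hf g
  change ⇑f ⁻¹' closure (Set.range g) = closure (⇑f ⁻¹' Set.range g) at this
  rw [hrange, hsat, hF.closure_eq] at this
  exact this

lemma S2495 {X Y : Scheme.{u}} (f : X ⟶ Y)
    (hf : FDesc.IsQuasiFlat f) [Surjective f] [QuasiCompact f] : Topology.IsQuotientMap f.base := by
  rw [Topology.isQuotientMap_iff_isClosed]
  refine ⟨f.surjective, fun s ↦ ⟨fun hs ↦ hs.preimage f.continuous, fun hs ↦ ?_⟩⟩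
  have h1 : f '' (f.base ⁻¹' s) = s := Set.image_preimage_eq s f.surjective
  have h2 := S4634 f hf (f.base ⁻¹' s) hs (by rw [h1])
  rw [h1] at h2
  have : closure s = s := by
    apply Set.preimage_injective.mpr f.surjective
    exact h2
  exact closure_eq_iff_isClosed.mp this

lemma S4632 {X Y Y' : Scheme.{u}} (f : X ⟶ Y) (g : Y' ⟶ Y)
    [QuasiCompact f] [IsDominant f] (hg : FDesc.IsQuasiFlat g) : IsDominant (pullback.snd f g) := by
  constructor
  rw [denseRange_iff_closure_range, Scheme.Pullback.range_snd]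
  have := S2494 g hg f
  rw [f.denseRange.closure_range, Set.preimage_univ] at this
  exact this.symm

end Groth.Agent.FDesc60
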