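import Groth.Agent.FDesc60.FibreNak
import Groth.Agent.E4O.BaseChangeDim
import Groth.Agent.FlatMor68.FibreFree

/-! Modules faithfully flat relative to a morphism. -/

set_option autoImplicit false
set_option backward.isDefEq.respectTransparency.types false
set_option linter.style.haveILetI false

noncomputable section

universe u

open CategoryTheory Limits AlgebraicGeometry TensorProduct IsLocalRing

namespace Groth.Agent.FDesc60

/-- `F` is nowhere vanishing on the fibres: every point has a point over it where `F ⊗ κ(y) ≠ 0`. -/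
def FibNonzero {X Y : Scheme.{u}} (f : X ⟶ Y) (F : X.Modules) : Prop :=
  ∀ y : ↥Y, ∃ x : ↥X, f x = y ∧
    letI := FlatMod.moduleStalkOver f F x
    IsLocalRing.maximalIdeal (Y.presheaf.stalk (f x)) •
      (⊤ : Submodule (Y.presheaf.stalk (f x)) (F.presheaf.stalk x)) ≠ ⊤

theorem fibNonzero_iff {X Y : Scheme.{u}} (f : X ⟶ Y) (F : X.Modules) (hF : Coh.IsQCoh F) :
    FibNonzero f F ↔ ∀ y : ↥Y, ∃ z : f.fiber y,
      Nontrivial (((Scheme.Modules.pullback (f.fiberι y)).obj F).presheaf.stalk z) := by
  refine forall_congr' fun y => ⟨?_, ?_⟩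
  · rintro ⟨x, hx, h⟩
    obtain ⟨z, rfl⟩ := E4O.exists_fiberι_eq f hx
    exact ⟨z, (nontrivial_fibre_stalk_iff f F hF y z).2 h⟩
  · rintro ⟨z, hz⟩
    exact ⟨_, E4O.apply_fiberι f y z, (nontrivial_fibre_stalk_iff f F hF y z).1 hz⟩

theorem nontrivial_pullback_stalk {X Y : Scheme.{u}} (h : X ⟶ Y) [Flat h] (G : Y.Modules)
    (hG : Coh.IsQCoh G) (x : X) (hx : Nontrivial (G.presheaf.stalk (h x))) :
    Nontrivial (((Scheme.Modules.pullback h).obj G).presheaf.stalk x) := by
  haveI : G.IsQuasicoherent := hG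
  obtain ⟨E⟩ := FlatMor68.PullbackStalk.nonempty_stalkPullbackEquiv h G x
  letI := (h.stalkMap x).hom.toAlgebra
  haveI : Module.Flat (Y.presheaf.stalk (h x)) (X.presheaf.stalk x) := Flat.stalkMap h x
  haveI : IsLocalHom (algebraMap (Y.presheaf.stalk (h x)) (X.presheaf.stalk x)) :=
    inferInstanceAs (IsLocalHom (h.stalkMap x).hom)
  haveI : Module.FaithfullyFlat (Y.presheaf.stalk (h x)) (X.presheaf.stalk x) :=
    Module.FaithfullyFlat.of_flat_of_isLocalHom
  exact E.toEquiv.nontrivial_congr.2 inferInstance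

theorem exists_fibre_map {P X Y Y' : Scheme.{u}} {p : P ⟶ X} {q : P ⟶ Y'} {f : X ⟶ Y} {g : Y' ⟶ Y}
    (hsq : IsPullback p q f g) (y' : Y') :
    ∃ m : q.fiber y' ⟶ f.fiber (g y'), Flat m ∧ Surjective m ∧
      m ≫ f.fiberι (g y') = q.fiberι y' ≫ p := by
  let m : q.fiber y' ⟶ f.fiber (g y') := pullback.lift (q.fiberι y' ≫ p)
    (q.fiberToSpecResidueField y' ≫ Spec.map (g.residueFieldMap y')) (by
      show (pullback.fst _ _ ≫ p) ≫ f = (pullback.snd _ _ ≫ _) ≫ _
      rw [Category.assoc, Category.assoc, hsq.w, pullback.condition_assoc,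
        Scheme.Hom.SpecMap_residueFieldMap_fromSpecResidueField])
  have hm : IsPullback m (q.fiberToSpecResidueField y') (f.fiberToSpecResidueField (g y'))
      (Spec.map (g.residueFieldMap y')) := by
    refine IsPullback.of_right ?_ (pullback.lift_snd _ _ _) (IsPullback.of_hasPullback f _)
    erw [pullback.lift_fst, Scheme.Hom.SpecMap_residueFieldMap_fromSpecResidueField]
    exact (IsPullback.of_hasPullback q (Y'.fromSpecResidueField y')).paste_horiz hsq
  have hflat : Flat m := MorphismProperty.of_isPullback (P := @Flat) hm.flip inferInstance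
  have hsurj : Surjective (Spec.map (g.residueFieldMap y')) :=
    ⟨fun x => ⟨IsLocalRing.closedPoint _,
      Subsingleton.elim (α := PrimeSpectrum (Y.residueField (g y'))) _ x⟩⟩
  exact ⟨m, hflat, MorphismProperty.of_isPullback hm.flip hsurj, pullback.lift_fst _ _ _⟩

theorem fibNonzero_baseChange {X Y Y' : Scheme.{u}} (f : X ⟶ Y) (g : Y' ⟶ Y)
    (F : X.Modules) (hF : Coh.IsQCoh F) (h : FibNonzero f F) :
    FibNonzero (pullback.snd f g) ((Scheme.Modules.pullback (pullback.fst f g)).obj F) := by
  have hF' : Coh.IsQCoh ((Scheme.Modules.pullback (pullback.fst f g)).obj F) :=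
    QCPull72.isQuasicoherent_pullback (pullback.fst f g) F
  rw [fibNonzero_iff _ _ hF] at h
  refine (fibNonzero_iff _ _ hF').2 fun y' => ?_
  obtain ⟨z, hz⟩ := h (g y')
  obtain ⟨m, hflat, hsurj, hfib⟩ := exists_fibre_map (IsPullback.of_hasPullback f g) y'
  obtain ⟨z', rfl⟩ := m.surjective z
  have hFy : Coh.IsQCoh ((Scheme.Modules.pullback (f.fiberι (g y'))).obj F) :=
    QCPull72.isQuasicoherent_pullback _ F
  have h1 := nontrivial_pullback_stalk m _ hFy z' hz
  let I : (Scheme.Modules.pullback m).obj ((Scheme.Modules.pullback (f.fiberι (g y'))).obj F) ≅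
      (Scheme.Modules.pullback ((pullback.snd f g).fiberι y')).obj
        ((Scheme.Modules.pullback (pullback.fst f g)).obj F) :=
    (Scheme.Modules.pullbackComp _ _).app F ≪≫ (Scheme.Modules.pullbackCongr hfib).app F ≪≫
      ((Scheme.Modules.pullbackComp _ _).app F).symm
  exact ⟨z', (FlatMor68.FibreFree.stalkEquivOfIso I z').toEquiv.nontrivial_congr.1 h1⟩

theorem S4681 {X Y Z : Scheme.{u}} (f : X ⟶ Y) (g : Y ⟶ Z)
    (F : X.Modules) (hFfl : FlatMod.IsFlatOver f F) (hFff : FibNonzero f F) :
    (Flat g ∧ Surjective g) ↔ (FlatMod.IsFlatOver (f ≫ g) F ∧ FibNonzero (f ≫ g) F) := by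
  constructor
  · rintro ⟨_, _⟩
    refine ⟨fun x => ?_, fun z => ?_⟩
    · letI := (g.stalkMap (f x)).hom.toAlgebra
      letI := FlatMod.moduleStalkOver f F x
      letI : Module (Z.presheaf.stalk (g (f x))) (F.presheaf.stalk x) := FlatMod.moduleStalkOver (f ≫ g) F x
      haveI : IsScalarTower (Z.presheaf.stalk (g (f x))) (Y.presheaf.stalk (f x)) (F.presheaf.stalk x) :=
        .of_algebraMap_smul fun r s => by
          change (f.stalkMap x).hom ((g.stalkMap (f x)).hom r) • s = ((f ≫ g).stalkMap x).hom r • s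
          rw [Scheme.Hom.stalkMap_comp]
          rfl
      haveI : Module.Flat (Z.presheaf.stalk (g (f x))) (Y.presheaf.stalk (f x)) := Flat.stalkMap g (f x)
      haveI : Module.Flat (Y.presheaf.stalk (f x)) (F.presheaf.stalk x) := hFfl x
      exact Module.Flat.trans (Z.presheaf.stalk (g (f x))) (Y.presheaf.stalk (f x)) _
    · obtain ⟨y, rfl⟩ := g.surjective z
      obtain ⟨x, rfl, hx⟩ := hFff y
      refine ⟨x, rfl, fun hc => hx ?_⟩
      letI := (g.stalkMap (f x)).hom.toAlgebra
      letI := FlatMod.moduleStalkOver f F x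
      letI : Module (Z.presheaf.stalk (g (f x))) (F.presheaf.stalk x) := FlatMod.moduleStalkOver (f ≫ g) F x
      haveI : IsScalarTower (Z.presheaf.stalk (g (f x))) (Y.presheaf.stalk (f x)) (F.presheaf.stalk x) :=
        .of_algebraMap_smul fun r s => by
          change (f.stalkMap x).hom ((g.stalkMap (f x)).hom r) • s = ((f ≫ g).stalkMap x).hom r • s
          rw [Scheme.Hom.stalkMap_comp]
          rfl
      have hle : (maximalIdeal (Z.presheaf.stalk (g (f x)))).map (g.stalkMap (f x)).hom ≤
          maximalIdeal (Y.presheaf.stalk (f x)) := Ideal.map_le_iff_le_comap.2 fun t ht => by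
        rw [Ideal.mem_comap, mem_maximalIdeal, mem_nonunits_iff] at *
        exact fun h => ht (IsLocalHom.map_nonunit (self := g.toLRSHom.prop (f x)) t h)
      refine top_le_iff.1 (le_trans ?_ (Submodule.smul_mono_left hle))
      intro a _
      have hc' : maximalIdeal (Z.presheaf.stalk (g (f x))) •
          (⊤ : Submodule (Z.presheaf.stalk (g (f x))) (F.presheaf.stalk x)) = ⊤ := hc
      have ha : a ∈ maximalIdeal (Z.presheaf.stalk (g (f x))) •
          (⊤ : Submodule (Z.presheaf.stalk (g (f x))) (F.presheaf.stalk x)) := hc'.ge Submodule.mem_top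
      rw [← Submodule.restrictScalars_mem (Z.presheaf.stalk (g (f x))),
        show (maximalIdeal (Z.presheaf.stalk (g (f x)))).map (g.stalkMap (f x)).hom =
          (maximalIdeal (Z.presheaf.stalk (g (f x)))).map (algebraMap _ (Y.presheaf.stalk (f x))) from rfl,
        Ideal.smul_restrictScalars, Submodule.restrictScalars_top]
      exact ha
  · rintro ⟨hfl, hnz⟩
    refine ⟨Flat.of_stalkMap g fun y => ?_, ⟨fun z => ?_⟩⟩
    · obtain ⟨x, rfl, hx⟩ := hFff y
      letI := (g.stalkMap (f x)).hom.toAlgebra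
      letI := FlatMod.moduleStalkOver f F x
      letI : Module (Z.presheaf.stalk (g (f x))) (F.presheaf.stalk x) := FlatMod.moduleStalkOver (f ≫ g) F x
      haveI : IsScalarTower (Z.presheaf.stalk (g (f x))) (Y.presheaf.stalk (f x)) (F.presheaf.stalk x) :=
        .of_algebraMap_smul fun r s => by
          change (f.stalkMap x).hom ((g.stalkMap (f x)).hom r) • s = ((f ≫ g).stalkMap x).hom r • s
          rw [Scheme.Hom.stalkMap_comp]
          rfl
      haveI : Module.Flat (Y.presheaf.stalk (f x)) (F.presheaf.stalk x) := hFfl x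
      haveI : Module.FaithfullyFlat (Y.presheaf.stalk (f x)) (F.presheaf.stalk x) :=
        ⟨fun {m} hm => by rw [eq_maximalIdeal hm]; exact hx⟩
      haveI : Module.Flat (Z.presheaf.stalk (g (f x))) (F.presheaf.stalk x) := hfl x
      haveI : Module.Flat (Z.presheaf.stalk (g (f x)))
          (F.presheaf.stalk x ⊗[Y.presheaf.stalk (f x)] Y.presheaf.stalk (f x)) :=
        Module.Flat.of_linearEquiv
          ((TensorProduct.rid (Y.presheaf.stalk (f x)) (F.presheaf.stalk x)).restrictScalars
            (Z.presheaf.stalk (g (f x))))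
      exact FlatMor68.PullbackStalk.flat_of_flat_tensor (S := Y.presheaf.stalk (f x)) (L := F.presheaf.stalk x)
    · obtain ⟨x, hx, -⟩ := hnz z
      exact ⟨f x, hx⟩

end Groth.Agent.FDesc60
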