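import Groth.Agent.FDesc60.QF2
import Groth.Agent.FDesc60.FFRel
import Groth.Agent.FBase64.AssTensor.PullLength
import Groth.Agent.FlatMor66.BCStalk
import Groth.Agent.FlatMor68.PullbackStalk

/-!
# Flatness of external tensor products
-/

set_option autoImplicit false
set_option linter.style.haveILetI false
set_option backward.isDefEq.respectTransparency.types false
universe u

open CategoryTheory CategoryTheory.Limits AlgebraicGeometry TensorProduct

namespace Groth.Agent.FDesc60

section Algebra

variable {R S : Type u} [CommRing R] [CommRing S] [Algebra R S]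
variable {L : Type u} [AddCommGroup L] [Module S L] [Module R L] [IsScalarTower R S L]
variable {W : Type u} [AddCommGroup W] [Module S W] [Module R W] [IsScalarTower R S W]

lemma smul_top_eq_top_iff_map (I : Ideal R) (M : Type u) [AddCommGroup M] [Module S M] [Module R M]
    [IsScalarTower R S M] :
    I • (⊤ : Submodule R M) = ⊤ ↔ I.map (algebraMap R S) • (⊤ : Submodule S M) = ⊤ := by
  rw [← Submodule.restrictScalars_eq_top_iff R S M, Ideal.smul_restrictScalars]
  rfl

lemma subsingleton_quot_iff (J : Ideal S) (M : Type u) [AddCommGroup M] [Module S M] :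
    Subsingleton ((S ⧸ J) ⊗[S] M) ↔ J • (⊤ : Submodule S M) = ⊤ := by
  rw [(TensorProduct.quotTensorEquivQuotSMul M J).toEquiv.subsingleton_congr,
    Submodule.Quotient.subsingleton_iff]

/-- An ideal of the base fills a tensor product once it fills the right factor. -/
lemma smul_top_tensor_of_smul_top (I : Ideal R) (h : I • (⊤ : Submodule R W) = ⊤) :
    I • (⊤ : Submodule R (L ⊗[S] W)) = ⊤ := by
  rw [smul_top_eq_top_iff_map (S := S), ← subsingleton_quot_iff] at h ⊢
  exact (TensorProduct.leftComm S (S ⧸ I.map (algebraMap R S)) L W).toEquiv.subsingleton_congr.mpr inferInstance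

/-- An ideal of the base fills a faithfully flat tensor product only if it fills the right factor. -/
lemma smul_top_of_smul_top_tensor [Module.FaithfullyFlat S L] (I : Ideal R)
    (h : I • (⊤ : Submodule R (L ⊗[S] W)) = ⊤) : I • (⊤ : Submodule R W) = ⊤ := by
  rw [smul_top_eq_top_iff_map (S := S), ← subsingleton_quot_iff] at h ⊢
  haveI := (TensorProduct.leftComm S (S ⧸ I.map (algebraMap R S)) L W).toEquiv.subsingleton_congr.mp h
  exact Module.FaithfullyFlat.lTensor_reflects_triviality S L _

lemma smul_top_congr (I : Ideal R) {M N : Type u} [AddCommGroup M] [Module R M] [AddCommGroup N] [Module R N]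
    (e : M ≃ₗ[R] N) (h : I • (⊤ : Submodule R M) = ⊤) : I • (⊤ : Submodule R N) = ⊤ := by
  have := congrArg (Submodule.map e.toLinearMap) h
  rwa [Submodule.map_smul'', Submodule.map_top, LinearMap.range_eq_top.mpr e.surjective] at this

end Algebra

/-- The fibre of the module at a point is nonzero. -/
def FibAt {X Y : Scheme.{u}} (f : X ⟶ Y) (F : X.Modules) (x : X) : Prop :=
  letI := FlatMod.moduleStalkOver f F x
  IsLocalRing.maximalIdeal (Y.presheaf.stalk (f x)) •
    (⊤ : Submodule (Y.presheaf.stalk (f x)) (F.presheaf.stalk x)) ≠ ⊤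

variable {P B Z : Scheme.{u}} (q : P ⟶ B) (h : B ⟶ Z) (F : P.Modules) (G : B.Modules)
  [F.IsQuasicoherent] [G.IsQuasicoherent]

/-- The tensor product with an inverse image, stalkwise. -/
theorem tensor_pullback_facts (x : P) (hF : FlatMod.IsFlatOverAt q F x) :
    (FlatMod.IsFlatOverAt h G (q x) →
        FlatMod.IsFlatOverAt (q ≫ h) (CohB1.tensorMod F ((Scheme.Modules.pullback q).obj G)) x) ∧
      (FibAt (q ≫ h) (CohB1.tensorMod F ((Scheme.Modules.pullback q).obj G)) x → FibAt h G (q x)) ∧
      (FibAt q F x →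
        (FlatMod.IsFlatOverAt (q ≫ h) (CohB1.tensorMod F ((Scheme.Modules.pullback q).obj G)) x →
            FlatMod.IsFlatOverAt h G (q x)) ∧
          (FibAt h G (q x) → FibAt (q ≫ h) (CohB1.tensorMod F ((Scheme.Modules.pullback q).obj G)) x)) := by
  haveI := QCPull72.isQuasicoherent_pullback q G
  let C := Z.presheaf.stalk (h (q x))
  let S := B.presheaf.stalk (q x)
  let A := P.presheaf.stalk x
  let L := F.presheaf.stalk x
  let W := G.presheaf.stalk (q x)
  let T := (CohB1.tensorMod F ((Scheme.Modules.pullback q).obj G)).presheaf.stalk x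
  letI : Algebra C S := (h.stalkMap (q x)).hom.toAlgebra
  letI : Algebra S A := (q.stalkMap x).hom.toAlgebra
  letI : Algebra C A := ((q.stalkMap x).hom.comp (h.stalkMap (q x)).hom).toAlgebra
  haveI : IsScalarTower C S A := IsScalarTower.of_algebraMap_eq' rfl
  haveI : IsLocalHom (algebraMap S A) := inferInstanceAs (IsLocalHom (q.stalkMap x).hom)
  letI : Module S L := FlatMod.moduleStalkOver q F x
  haveI : IsScalarTower S A L :=
    ⟨fun a b n ↦ by rw [Algebra.smul_def]; exact mul_smul ((q.stalkMap x).hom a) b n⟩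
  letI : Module C L := Module.compHom L (algebraMap C A)
  haveI : IsScalarTower C A L :=
    ⟨fun a b n ↦ by rw [Algebra.smul_def]; exact mul_smul (algebraMap C A a) b n⟩
  haveI : IsScalarTower C S L := IsScalarTower.of_algebraMap_smul fun r n => rfl
  letI : Module C W := FlatMod.moduleStalkOver h G (q x)
  haveI : IsScalarTower C S W := IsScalarTower.of_algebraMap_smul fun r n => rfl
  letI : Module C T := FlatMod.moduleStalkOver (q ≫ h) (CohB1.tensorMod F ((Scheme.Modules.pullback q).obj G)) x
  haveI : IsScalarTower C A T := IsScalarTower.of_algebraMap_smul fun r n => by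
    change _ = ((q ≫ h).stalkMap x).hom r • n
    rw [Scheme.Hom.stalkMap_comp]
    rfl
  obtain ⟨eT⟩ := FBase64.AssTensor.nonempty_stalkTensorEquiv F ((Scheme.Modules.pullback q).obj G) x
  obtain ⟨eE⟩ := FlatMor68.PullbackStalk.nonempty_stalkPullbackEquiv q G x
  let eA : T ≃ₗ[A] L ⊗[S] W := eT ≪≫ₗ TensorProduct.congr (LinearEquiv.refl A L) eE ≪≫ₗ
    AlgebraTensorModule.cancelBaseChange S A A L W
  let e : T ≃ₗ[C] L ⊗[S] W := eA.restrictScalars C
  haveI : Module.Flat S L := hF
  refine ⟨fun hG => ?_, fun hT hW => hT ?_, fun hfib => ?_⟩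
  · haveI : Module.Flat C W := hG
    haveI : Module.Flat C (L ⊗[S] W) := flat_tensor_of_flat
    have h1 : Module.Flat C T := Module.Flat.of_linearEquiv e
    exact h1
  · have h1 : IsLocalRing.maximalIdeal C • (⊤ : Submodule C T) = ⊤ :=
      smul_top_congr (IsLocalRing.maximalIdeal C) e.symm (smul_top_tensor_of_smul_top (IsLocalRing.maximalIdeal C) hW)
    exact h1
  · haveI : Module.FaithfullyFlat S L := ⟨fun {I} hI => (IsLocalRing.eq_maximalIdeal hI) ▸ hfib⟩
    refine ⟨fun hT => ?_, fun hW hT => hW ?_⟩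
    · haveI : Module.Flat C T := hT
      haveI : Module.Flat C (L ⊗[S] W) := Module.Flat.of_linearEquiv e.symm
      exact FlatMor68.PullbackStalk.flat_of_flat_tensor (S := S) (L := L)
    · exact smul_top_of_smul_top_tensor (L := L) (IsLocalRing.maximalIdeal C) (smul_top_congr (M := T) (IsLocalRing.maximalIdeal C) e hT)

variable {X Y Y' : Scheme.{u}}

theorem S4678 (f : X ⟶ Y) (g : Y' ⟶ Y) (h : Y' ⟶ Z)
    (F : X.Modules) (hF : Coh.IsQCoh F) (G' : Y'.Modules) (hG' : Coh.IsQCoh G') (x' : ↥(pullback f g))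
    (hFx : FlatMod.IsFlatOverAt f F (pullback.fst f g x')) (hGy : FlatMod.IsFlatOverAt h G' (pullback.snd f g x')) :
    FlatMod.IsFlatOverAt (pullback.snd f g ≫ h) (CohB1.tensorMod ((Scheme.Modules.pullback (pullback.fst f g)).obj F)
      ((Scheme.Modules.pullback (pullback.snd f g)).obj G')) x' := by
  haveI : F.IsQuasicoherent := hF
  haveI : G'.IsQuasicoherent := hG'
  haveI := QCPull72.isQuasicoherent_pullback (pullback.fst f g) F
  exact (tensor_pullback_facts _ h _ G' x'
    (FlatMor66.isFlatOverAt_baseChange (IsPullback.of_hasPullback f g) F hF x' hFx)).1 hGy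

theorem S4679 (f : X ⟶ Y) (g : Y' ⟶ Y) (h : Y' ⟶ Z) (F : X.Modules) (hF : Coh.IsQCoh F)
    (hFfl : FlatMod.IsFlatOver f F) (hFff : FibNonzero f F) (G' : Y'.Modules) (hG' : Coh.IsQCoh G') :
    (FlatMod.IsFlatOver h G' ↔ FlatMod.IsFlatOver (pullback.snd f g ≫ h)
      (CohB1.tensorMod ((Scheme.Modules.pullback (pullback.fst f g)).obj F)
        ((Scheme.Modules.pullback (pullback.snd f g)).obj G'))) ∧
    ((FlatMod.IsFlatOver h G' ∧ ∀ z : Z, ∃ y' : Y', h y' = z ∧ FibAt h G' y') ↔
      (FlatMod.IsFlatOver (pullback.snd f g ≫ h)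
        (CohB1.tensorMod ((Scheme.Modules.pullback (pullback.fst f g)).obj F)
          ((Scheme.Modules.pullback (pullback.snd f g)).obj G')) ∧
        ∀ z : Z, ∃ x' : ↥(pullback f g), (pullback.snd f g ≫ h) x' = z ∧
          FibAt (pullback.snd f g ≫ h) (CohB1.tensorMod ((Scheme.Modules.pullback (pullback.fst f g)).obj F)
            ((Scheme.Modules.pullback (pullback.snd f g)).obj G')) x')) := by
  haveI : F.IsQuasicoherent := hF
  haveI : G'.IsQuasicoherent := hG'
  haveI := QCPull72.isQuasicoherent_pullback (pullback.fst f g) F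
  let F' := (Scheme.Modules.pullback (pullback.fst f g)).obj F
  have key := fun x' => tensor_pullback_facts (pullback.snd f g) h F' G' x'
    (FlatMor66.isFlatOverAt_baseChange (IsPullback.of_hasPullback f g) F hF x' (hFfl _))
  have hfib : ∀ y' : Y', ∃ x' : ↥(pullback f g), pullback.snd f g x' = y' ∧ FibAt (pullback.snd f g) F' x' :=
    fun y' => fibNonzero_baseChange f g F hF hFff y'
  have hiff : FlatMod.IsFlatOver h G' ↔ FlatMod.IsFlatOver (pullback.snd f g ≫ h)
      (CohB1.tensorMod F' ((Scheme.Modules.pullback (pullback.snd f g)).obj G')) := by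
    refine ⟨fun hG x' => (key x').1 (hG _), fun hT y' => ?_⟩
    obtain ⟨x', rfl, hx'⟩ := hfib y'
    exact ((key x').2.2 hx').1 (hT x')
  refine ⟨hiff, and_congr hiff ⟨fun hG z => ?_, fun hT z => ?_⟩⟩
  · obtain ⟨y', rfl, hy'⟩ := hG z
    obtain ⟨x', rfl, hx'⟩ := hfib y'
    exact ⟨x', Scheme.Hom.comp_apply _ _ _, ((key x').2.2 hx').2 hy'⟩
  · obtain ⟨x', rfl, hx'⟩ := hT z
    exact ⟨_, (Scheme.Hom.comp_apply _ _ _).symm, (key x').2.1 hx'⟩

end Groth.Agent.FDesc60
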