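import Groth.Agent.Props58.LocFree.Affine
import Groth.Agent.FBase64.RestrictStalk
import Groth.Agent.QC70.ExtCoh
import Groth.Agent.ParaF26.Free

/-! A finitely presented module flat at a point is free near it. -/

set_option autoImplicit false
set_option backward.isDefEq.respectTransparency.types false
set_option linter.style.haveILetI false

noncomputable section

universe u

open CategoryTheory Limits AlgebraicGeometry TopologicalSpace
open Groth.Agent.QC70 Groth.Agent.Props58.LocFree

namespace Groth.Agent.FDesc60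

theorem exists_stalkBasis_of_free {X : Scheme.{u}} (M : X.Modules) (hFP : CohB1.IsFP M) (x : X)
    (hfree : Module.Free (X.presheaf.stalk x) (M.presheaf.stalk x)) :
    ∃ (V : X.Opens) (n : ℕ) (s : Fin n → Γ(M, V)), x ∈ V ∧ StalkBasis s := by
  obtain ⟨U, hU, hx, -⟩ := exists_isAffineOpen_mem_and_subset (show x ∈ (⊤ : X.Opens) from trivial)
  have := finitePresentation_sections M hU
  letI := stalkModule M hx
  letI : Algebra Γ(X, U) (X.presheaf.stalk x) := (X.presheaf.germ U x hx).hom.toAlgebra
  haveI : IsScalarTower Γ(X, U) (X.presheaf.stalk x) (M.presheaf.stalk x) :=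
    IsScalarTower.of_algebraMap_smul fun _ _ => rfl
  haveI : IsLocalization.AtPrime (X.presheaf.stalk x) (hU.primeIdealOf ⟨x, hx⟩).asIdeal :=
    hU.isLocalization_stalk ⟨x, hx⟩
  haveI := isLocalizedModule_germ (isLocAt_of_isQuasicoherent M hU) hU hx
  obtain ⟨r, hr, hfr, -⟩ := Module.FinitePresentation.exists_free_localizedModule_powers
    (hU.primeIdealOf ⟨x, hx⟩).asIdeal.primeCompl (germLinear M hx) (X.presheaf.stalk x)
  have hxr : x ∈ X.basicOpen r := (mem_basicOpen_iff_primeCompl hU hx r).mpr hr
  letI := resAlg (X.basicOpen_le r)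
  letI := resModule M (X.basicOpen_le r)
  haveI := isScalarTower_res M (X.basicOpen_le r)
  haveI := isLocalization_resAlg hU r
  haveI := isLocalizedModule_resLin M (isLocAt_of_isQuasicoherent M hU) r
  haveI : Module.Free Γ(X, X.basicOpen r) Γ(M, X.basicOpen r) :=
    free_of_localization_free (Submonoid.powers r) (resLin M (X.basicOpen_le r)) hfr
  have := finite_sections_of_isFiniteType M (hU.basicOpen r)
  haveI : Nontrivial Γ(X, X.basicOpen r) := (X.presheaf.germ _ x hxr).hom.domain_nontrivial
  exact ⟨X.basicOpen r, _, _, hxr, stalkBasis_of_basis (hU.basicOpen r) (Module.finBasis _ _)⟩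

theorem free_stalk_of_isFinLocFree {X : Scheme.{u}} (M : X.Modules) (h : FlatMod.IsFinLocFree M) (x : X) :
    Module.Free (X.presheaf.stalk x) (M.presheaf.stalk x) := by
  obtain ⟨U, n, s, hx, hs⟩ := isFinLocFree_iff.mp h x
  let l : (Fin n → X.presheaf.stalk x) →ₗ[X.presheaf.stalk x] M.presheaf.stalk x :=
    Fintype.linearCombination (X.presheaf.stalk x) fun i => germM M U x hx (s i)
  have hl : ∀ c, l c = germComb s x hx c := fun c => by
    simp only [l, germComb, Fintype.linearCombination_apply]
  exact Module.Free.of_equiv (LinearEquiv.ofBijective l (by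
    rw [show (l : (Fin n → X.presheaf.stalk x) → M.presheaf.stalk x) = germComb s x hx from funext hl]
    exact hs x hx))

attribute [local instance] RingHomInvPair.of_ringEquiv in
theorem free_stalk_pullback_iff {U X : Scheme.{u}} (j : U ⟶ X) [IsOpenImmersion j] (F : X.Modules) (u : U) :
    Module.Free (U.presheaf.stalk u) (((Scheme.Modules.pullback j).obj F).presheaf.stalk u) ↔
      Module.Free (X.presheaf.stalk (j u)) (F.presheaf.stalk (j u)) := by
  rw [Module.Free.iff_of_equiv (FBase64.AssSheaf.pullbackStalkEquiv j F u)]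
  set σ := (asIso (j.stalkMap u)).commRingCatIsoToRingEquiv
  refine (Module.Free.iff_of_equiv (σ := σ) ?_).symm
  exact { FBase64.AssSheaf.restrictStalkEquiv j F u with
    map_smul' := fun a m => FBase64.AssSheaf.restrictStalkEquiv_smul j F u a m }

theorem isFlatAt_iff_exists_nhd {X : Scheme.{u}} (F : X.Modules) (hF : CohB1.IsFP F) (x : X) :
    FlatMod.IsFlatAt F x ↔
      ∃ U : X.Opens, x ∈ U ∧ FlatMod.IsFinLocFree ((Scheme.Modules.pullback U.ι).obj F) := by
  constructor
  · intro h
    obtain ⟨V, n, s, hx, hs⟩ := exists_stalkBasis_of_free F hF x (free_stalk_of_flat x h)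
    obtain ⟨e⟩ := nonempty_iso_of_stalkBasis hs
    exact ⟨V, hx, ParaF26.isFinLocFree_of_iso
      (((Scheme.Modules.restrictFunctorIsoPullback V.ι).app F).symm ≪≫ e).symm
      (QC70.isFinLocFree_freeMod _ n)⟩
  · rintro ⟨U, hx, h⟩
    have : Module.Free (X.presheaf.stalk x) (F.presheaf.stalk x) :=
      (free_stalk_pullback_iff U.ι F ⟨x, hx⟩).1 (free_stalk_of_isFinLocFree _ h ⟨x, hx⟩)
    exact (Module.Flat.of_free : Module.Flat (X.presheaf.stalk x) (F.presheaf.stalk x))

end Groth.Agent.FDesc60
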