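import Groth.Agent.FDesc60.QF
import Groth.Agent.Unr55.DescProps
import Mathlib.AlgebraicGeometry.Morphisms.FlatDescent

set_option autoImplicit false
set_option backward.isDefEq.respectTransparency.types false
universe u

open CategoryTheory CategoryTheory.Limits AlgebraicGeometry Topology

namespace Groth.Agent.FDesc60

lemma isEmbedding_of_fpqc {T T' W W' : Scheme.{u}} (p : T' ⟶ T) (g : W ⟶ T) (q : W' ⟶ W) (g' : W' ⟶ T')
    (sq : IsPullback g' q p g) [Flat p] [Surjective p] [QuasiCompact g] (h : IsEmbedding g') :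
    IsEmbedding g := by
  have key : ∀ (w : W) (t' : T'), p t' = g w → ∃ w', g' w' = t' ∧ q w' = w := fun w t' he => by
    obtain ⟨a, ha1, ha2⟩ := Scheme.Pullback.exists_preimage_pullback (f := p) (g := g) t' w he
    refine ⟨sq.isoPullback.inv a, ?_, ?_⟩
    · rw [← Scheme.Hom.comp_apply, sq.isoPullback_inv_fst]; exact ha1
    · rw [← Scheme.Hom.comp_apply, sq.isoPullback_inv_snd]; exact ha2
  have hinj : Function.Injective g := fun w₁ w₂ he => by
    obtain ⟨t', ht'⟩ := p.surjective (g w₁)
    obtain ⟨a, ha, rfl⟩ := key w₁ t' ht'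
    obtain ⟨b, hb, rfl⟩ := key w₂ t' (ht'.trans he)
    rw [h.injective (ha.trans hb.symm)]
  have hcl : ∀ C : Set W, IsClosed C → g ⁻¹' closure (g '' C) = C := fun C hC => by
    refine subset_antisymm (fun w hw => ?_) fun w hw => subset_closure ⟨w, hw, rfl⟩
    obtain ⟨C', c, _, hc⟩ := exists_range_eq_image_of_isClosed g C hC
    obtain ⟨t', ht'⟩ := p.surjective (g w)
    obtain ⟨w', hw', rfl⟩ := key w t' ht'
    have h1 : t' ∈ p.base ⁻¹' closure (Set.range c.base) := by
      show p t' ∈ closure (Set.range c)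
      rw [hc, ht']
      exact hw
    rw [preimage_closure_range_eq p (Flat.generalizingMap p) c] at h1
    have h2 : p.base ⁻¹' Set.range c.base ⊆ g' '' (q ⁻¹' C) := fun s hs => by
      have hs' : p s ∈ g '' C := hc ▸ hs
      obtain ⟨v, hv, hvs⟩ := hs'
      obtain ⟨v', rfl, hv'2⟩ := key v s hvs.symm
      exact ⟨v', show q v' ∈ C from hv'2.symm ▸ hv, rfl⟩
    have h3 : g' w' ∈ closure (g' '' (q ⁻¹' C)) := hw' ▸ closure_mono h2 h1
    have h4 : w' ∈ closure (q ⁻¹' C) := h.isInducing.closure_eq_preimage_closure_image _ ▸ h3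
    rwa [(hC.preimage q.continuous).closure_eq] at h4
  refine ⟨⟨TopologicalSpace.ext_iff.mpr fun O => ⟨fun hO => ?_, fun hO => ?_⟩⟩, hinj⟩
  · refine ⟨(closure (g '' Oᶜ))ᶜ, isClosed_closure.isOpen_compl, ?_⟩
    rw [Set.preimage_compl]
    exact (congrArg compl (hcl Oᶜ hO.isClosed_compl)).trans (compl_compl O)
  · obtain ⟨U, hU, rfl⟩ := hO
    exact hU.preimage g.continuous

lemma descendsAlong_universally_isEmbedding :
    MorphismProperty.DescendsAlong
      (MorphismProperty.universally (topologically (fun f => Topology.IsEmbedding f)) ⊓ @QuasiCompact :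
        MorphismProperty Scheme.{u})
      (@Surjective ⊓ @Flat ⊓ @QuasiCompact : MorphismProperty Scheme.{u}) := by
  haveI : MorphismProperty.DescendsAlong @QuasiCompact (@Surjective ⊓ @Flat ⊓ @QuasiCompact : MorphismProperty Scheme.{u}) :=
    Unr55.quasiCompact.{u}
  haveI : MorphismProperty.IsStableUnderBaseChange
      (@Surjective ⊓ @Flat ⊓ @QuasiCompact : MorphismProperty Scheme.{u}) := inferInstance
  refine MorphismProperty.DescendsAlong.mk' ?_
  intro X Y Z f g _ hf ⟨h1, h2⟩
  haveI hg : QuasiCompact g := MorphismProperty.of_pullback_fst_of_descendsAlong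
    (P := @QuasiCompact) (Q := @Surjective ⊓ @Flat ⊓ @QuasiCompact) (f := f) hf h2
  refine ⟨MorphismProperty.universally_mk' _ _ fun {T} j _ => ?_, hg⟩
  haveI := hf.1.1
  haveI := hf.1.2
  let p : pullback j f ⟶ T := pullback.fst j f
  have sq : IsPullback (pullback.fst p (pullback.fst j g)) (pullback.snd p (pullback.fst j g)) p (pullback.fst j g) :=
    IsPullback.of_hasPullback _ _
  refine isEmbedding_of_fpqc p (pullback.fst j g) _ _ sq ?_
  let r : pullback p (pullback.fst j g) ⟶ pullback f g :=
    pullback.map _ _ _ _ (pullback.snd j f) (pullback.snd j g) j pullback.condition pullback.condition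
  have hr1 : r ≫ pullback.fst f g = pullback.fst p (pullback.fst j g) ≫ pullback.snd j f := pullback.lift_fst _ _ _
  have hr2 : r ≫ pullback.snd f g = pullback.snd p (pullback.fst j g) ≫ pullback.snd j g := pullback.lift_snd _ _ _
  have key : IsPullback (pullback.snd p (pullback.fst j g) ≫ pullback.snd j g) (pullback.fst p (pullback.fst j g))
      g (pullback.snd j f ≫ f) := by
    have := sq.flip.paste_horiz (IsPullback.of_hasPullback j g).flip
    simpa [p, pullback.condition] using this
  rw [← hr2] at key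
  have t : IsPullback r (pullback.fst p (pullback.fst j g)) (pullback.fst f g) (pullback.snd j f) :=
    IsPullback.of_right key hr1 (IsPullback.of_hasPullback f g).flip
  exact h1 _ _ _ t.flip

end Groth.Agent.FDesc60
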