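import Groth.Agent.FlatMor68.PullbackStalk
import Groth.Agent.FlatMor68.FibreStalk
import Groth.Agent.FlatMor66.BCStalk

/-! Faithful flatness of a module relative to a morphism, read on the fibres. -/

set_option autoImplicit false
set_option backward.isDefEq.respectTransparency.types false
set_option linter.style.haveILetI false

noncomputable section

universe u

open CategoryTheory Limits AlgebraicGeometry TensorProduct IsLocalRing

namespace Groth.Agent.FDesc60

/-- The stalk of the restriction to the fibre vanishes iff `m_y F_x = F_x`. -/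
theorem nontrivial_fibre_stalk_iff {X Y : Scheme.{u}} (f : X ⟶ Y) (F : X.Modules) (hF : Coh.IsQCoh F)
    (s : Y) (z : f.fiber s) :
    Nontrivial (((Scheme.Modules.pullback (f.fiberι s)).obj F).presheaf.stalk z) ↔
      letI := FlatMod.moduleStalkOver f F (f.fiberι s z)
      maximalIdeal (Y.presheaf.stalk (f (f.fiberι s z))) •
        (⊤ : Submodule (Y.presheaf.stalk (f (f.fiberι s z))) (F.presheaf.stalk (f.fiberι s z))) ≠ ⊤ := by
  haveI : F.IsQuasicoherent := hF
  letI := FlatMod.moduleStalkOver f F (f.fiberι s z)
  obtain ⟨E⟩ := FlatMor68.PullbackStalk.nonempty_stalkPullbackEquiv (f.fiberι s) F z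
  let x := f.fiberι s z
  let R := Y.presheaf.stalk (f x)
  let C := X.presheaf.stalk x
  let CC := (f.fiber s).presheaf.stalk z
  letI : Algebra R C := (f.stalkMap x).hom.toAlgebra
  letI : Algebra C CC := ((f.fiberι s).stalkMap z).hom.toAlgebra
  let M := F.presheaf.stalk x
  haveI : IsScalarTower R C M := .of_algebraMap_smul fun r m => rfl
  let J : Ideal C := (maximalIdeal R).map (algebraMap R C)
  have hker : RingHom.ker (algebraMap C CC) = J := FlatMor68.FibreStalk.ker_fiberι_stalkMap f s z
  let eC : (C ⧸ J) ≃ₐ[C] CC := (Ideal.quotientEquivAlgOfEq C hker.symm).trans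
    (Ideal.quotientKerAlgEquivOfSurjective (f := Algebra.ofId C CC)
      (FlatMor68.FibreStalk.fiberι_stalkMap_surjective f s z))
  let eM : (M ⧸ (J • (⊤ : Submodule C M))) ≃ₗ[C] CC ⊗[C] M :=
    (quotTensorEquivQuotSMul M J).symm ≪≫ₗ TensorProduct.congr eC.toLinearEquiv (LinearEquiv.refl C M)
  rw [E.toEquiv.nontrivial_congr, ← eM.toEquiv.nontrivial_congr, Submodule.Quotient.nontrivial_iff]
  have h1 : (J • (⊤ : Submodule C M)).restrictScalars R = maximalIdeal R • (⊤ : Submodule R M) := by
    rw [Ideal.smul_restrictScalars, Submodule.restrictScalars_top]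
  constructor <;> intro h hc <;> apply h
  · rw [← Submodule.restrictScalars_eq_top_iff R C M, h1]
    exact hc
  · rw [← Submodule.restrictScalars_eq_top_iff R C M, h1] at hc
    exact hc

end Groth.Agent.FDesc60
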