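import Groth.Agent.FDesc60.QF
import Groth.Agent.Subtr96.Closure
import Groth.Agent.ConsPts12.Cons

set_option autoImplicit false
universe u

open CategoryTheory AlgebraicGeometry Topology

namespace Groth.Agent.FDesc60

lemma preimage_closure_eq_of_isProConstructible {X Y : Scheme.{u}} (f : X ⟶ Y)
    (hf : GeneralizingMap f.base) {Z : Set Y} (hZ : ProCons.IsProConstructible Z) :
    f ⁻¹' closure Z = closure (f ⁻¹' Z) := by
  refine subset_antisymm (fun x hx => ?_) (f.continuous.closure_preimage_subset _)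
  obtain ⟨y, hy, hs⟩ := Subtr96.exists_specializes hZ (show f x ∈ closure Z from hx)
  obtain ⟨x', hx', e⟩ := hf hs
  exact closure_mono (Set.singleton_subset_iff.mpr (show x' ∈ f ⁻¹' Z from by
    show f x' ∈ Z
    exact (show f x' = y from e) ▸ hy)) hx'.mem_closure

lemma S4648 {X Y : Scheme.{u}} (f : X ⟶ Y)
    (hf : FDesc.IsQuasiFlat f) [Surjective f] [QuasiCompact f] (Z : Set ↥Y) :
    (IsLocallyClosed Z ∧ ProCons.IsProConstructible Z) ↔
      (IsLocallyClosed (⇑f ⁻¹' Z) ∧ ProCons.IsProConstructible (⇑f ⁻¹' Z)) := by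
  refine ⟨fun ⟨h1, h2⟩ => ⟨h1.preimage f.continuous, Subtr96.isProConstructible_preimage f h2⟩,
    fun ⟨h1, h2⟩ => ?_⟩
  have hZ : ProCons.IsProConstructible Z := by
    have := ConsPts12.isProConstructible_image f h2
    rwa [Set.image_preimage_eq Z f.surjective] at this
  refine ⟨?_, hZ⟩
  rw [isLocallyClosed_iff_isOpen_coborder] at h1 ⊢
  rw [← (S2495 f hf).isOpen_preimage]
  have : f ⁻¹' coborder Z = coborder (f ⁻¹' Z) := by
    simp only [coborder, Set.preimage_compl, Set.preimage_sdiff,
      preimage_closure_eq_of_isProConstructible f (S2493 f hf) hZ]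
  exact this ▸ h1

end Groth.Agent.FDesc60
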