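import Groth.Agent.FBase64.AssTensor.PullBase
import Groth.Agent.QCPull72.Support
import Groth.Agent.QCTens72.Basic
import Groth.Agent.E4O.FibreComp

/-! Maximal points of the support of `f^*E ⊗ F`. -/

set_option autoImplicit false
set_option linter.style.haveILetI false
set_option backward.isDefEq.respectTransparency.types false
universe u

open CategoryTheory AlgebraicGeometry

namespace Groth.Agent.FDesc60

theorem S4653 {X Y : Scheme.{u}} (f : X ⟶ Y) (F : X.Modules) (hF : Coh.IsCoh F)
    (hfl : FlatMod.IsFlatOver f F) (E : Y.Modules) (hE : Coh.IsCoh E) (x : X) :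
    (x ∈ CohB1.support (CohB1.tensorMod ((Scheme.Modules.pullback f).obj E) F) ∧
        ∀ z ∈ CohB1.support (CohB1.tensorMod ((Scheme.Modules.pullback f).obj E) F), z ⤳ x → z = x) ↔
      ((f x ∈ CohB1.support E ∧ ∀ w ∈ CohB1.support E, w ⤳ f x → w = f x) ∧
        (f.asFiber x ∈ CohB1.support ((Scheme.Modules.pullback (f.fiberι (f x))).obj F) ∧
          ∀ z ∈ CohB1.support ((Scheme.Modules.pullback (f.fiberι (f x))).obj F), z ⤳ f.asFiber x → z = f.asFiber x)) := by
  haveI : E.IsQuasicoherent := hE.1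
  haveI : E.IsFiniteType := hE.2
  haveI : F.IsQuasicoherent := hF.1
  haveI : F.IsFiniteType := hF.2
  haveI := QCPull72.isQuasicoherent_pullback f E
  haveI := QCPull72.isFiniteType_pullback f E
  rw [QCTens72.support_tensorMod, QCPull72.support_pullback, QCPull72.support_pullback]
  have hι : f.fiberι (f x) (f.asFiber x) = x := f.fiberι_asFiber x
  constructor
  · rintro ⟨⟨hxE, hxF⟩, hmax⟩
    refine ⟨⟨hxE, fun w hw hwx => ?_⟩, (show f.fiberι (f x) (f.asFiber x) ∈ CohB1.support F by rwa [hι]), fun z hz hzx => ?_⟩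
    · obtain ⟨z, hzF, hzx, rfl⟩ := FBase64.AssTensor.exists_support_specializes f F hF hfl hxF hwx
      rw [hmax z ⟨hw, hzF⟩ hzx]
    · have h1 : f (f.fiberι (f x) z) = f x := E4O.apply_fiberι f _ z
      have h2 : f.fiberι (f x) z = x := hmax _ ⟨show f (f.fiberι (f x) z) ∈ CohB1.support E by rw [h1]; exact hxE, hz⟩
        ((hzx.map (f.fiberι (f x)).continuous).trans (specializes_of_eq hι))
      exact (f.fiberι (f x)).isEmbedding.injective (h2.trans hι.symm)
  · rintro ⟨⟨hxE, hEmax⟩, haF, hFmax⟩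
    have hxF : x ∈ CohB1.support F := by
      have : f.fiberι (f x) (f.asFiber x) ∈ CohB1.support F := haF
      rwa [hι] at this
    refine ⟨⟨hxE, hxF⟩, fun z ⟨hzE, hzF⟩ hzx => ?_⟩
    have h1 : f z = f x := hEmax _ hzE (hzx.map f.continuous)
    obtain ⟨a, rfl⟩ := E4O.exists_fiberι_eq f h1
    rw [hFmax a hzF ((f.fiberι (f x)).isEmbedding.isInducing.specializes_iff.mp (hzx.trans (specializes_of_eq hι.symm))), hι]

end Groth.Agent.FDesc60
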